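import Cfsg.Agent.Lib.FusionSys.ProductER.Tools
import Cfsg.Agent.Lib.FusionSys.SmallFusion
import Cfsg.Agent.Lib.FusionSys.Local
import Cfsg.Agent.Lib.FusionSys.PPowerNormal

/-!
A saturated subsystem equal to its hyperfocal part that centralizes `X` and `N_W(X)`, for a strongly closed `W`
and a fully normalized `X`, centralizes `W`.
-/

set_option autoImplicit false
set_option linter.style.haveILetI false
set_option maxHeartbeats 1600000

namespace Cfsg.Lib.FusionSys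

open Cfsg Cfsg.FusionSystem
open scoped Pointwise

variable {Ω : Type*} [Group Ω] {S W X U : Subgroup Ω} {F : FusionSystem S} {C : FusionSystem U} {p : ℕ}

/-- An automorphism trivial on a subgroup and modulo it has `p`-power order. -/
theorem stab_pElement [Finite S] [Fact p.Prime] (hS : IsPGroup p S) {Q Z : Subgroup Ω} (hQ : Q ≤ S)
    {d : MulAut Q} (hfix : ∀ z : Q, (z : Ω) ∈ Z → d z = z) (hmod : ∀ z : Q, (z : Ω)⁻¹ * (d z : Ω) ∈ Z) :
    ∃ k : ℕ, d ^ p ^ k = 1 := by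
  haveI := finite_of_le hQ
  obtain ⟨k, hk⟩ := IsPGroup.iff_card.1 (hS.to_le hQ)
  refine ⟨k, MulEquiv.ext fun z => ?_⟩
  have hw : d (z⁻¹ * d z) = z⁻¹ * d z := hfix _ (by simpa using hmod z)
  have hpow : ∀ n : ℕ, (d ^ n) z = z * (z⁻¹ * d z) ^ n := by
    intro n
    induction n with
    | zero => simp
    | succ n ih => rw [pow_succ', MulAut.mul_apply, ih, map_mul, map_pow, hw, pow_succ', ← mul_assoc,
        mul_inv_cancel_left]
  rw [hpow, ← hk, pow_card_eq_one', mul_one, MulAut.one_apply]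

/-- The `A × B` lemma inside a `p`-group. -/
theorem fix_of_fix_centralizer {K : Subgroup Ω} [Finite K] [Fact p.Prime] (hK : IsPGroup p K) {θ : MulAut K}
    (hθ : (orderOf θ).Coprime p) {V B : Subgroup K} (hV : ∀ v ∈ V, θ v ∈ V) (hB : ∀ b ∈ B, θ b = b)
    (hn : B ≤ Subgroup.normalizer (V : Set K))
    (hfix : ∀ v ∈ V, (∀ b ∈ B, v * b = b * v) → θ v = v) : ∀ v ∈ V, θ v = v := by
  haveI : Group.IsNilpotent K := hK.isNilpotent
  suffices h : ∀ (n i : ℕ), Group.nilpotencyClass K ≤ i + n → ∀ v ∈ V, v ∈ Subgroup.lowerCentralSeries (⊤ : Subgroup K) i →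
      θ v = v from fun v hv => h _ 0 (le_of_eq (zero_add _).symm) v hv (by simp)
  intro n
  induction n with
  | zero =>
    intro i hi v _ hvi
    have h : Subgroup.lowerCentralSeries (⊤ : Subgroup K) i = ⊥ :=
      le_bot_iff.1 ((Subgroup.lowerCentralSeries_antitone (⊤ : Subgroup K) hi).trans Subgroup.lowerCentralSeries_nilpotencyClass.le)
    rw [h, Subgroup.mem_bot] at hvi
    rw [hvi, map_one]
  | succ n ih =>
    intro i hi v hv hvi
    refine eq_one_of_coprime_fix hK hθ (hfix _ (V.mul_mem (V.inv_mem hv) (hV v hv)) fun b hb => ?_)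
    have hc : θ (v * b * v⁻¹ * b⁻¹) = v * b * v⁻¹ * b⁻¹ := by
      refine ih (i + 1) (by omega) _ ?_ ?_
      · rw [show v * b * v⁻¹ * b⁻¹ = v * (b * v⁻¹ * b⁻¹) by group]
        exact V.mul_mem hv ((Subgroup.mem_normalizer_iff.1 (hn hb) _).1 (V.inv_mem hv))
      · rw [Subgroup.lowerCentralSeries_succ]
        exact Subgroup.commutator_mem_commutator hvi (Subgroup.mem_top b)
    rw [map_mul, map_mul, map_mul, map_inv, map_inv, hB b hb] at hc
    have h2 : θ v * b * (θ v)⁻¹ = v * b * v⁻¹ := mul_right_cancel hc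
    calc v⁻¹ * θ v * b = v⁻¹ * (θ v * b * (θ v)⁻¹) * θ v := by group
      _ = b * (v⁻¹ * θ v) := by rw [h2]; group

/-- The state of the climb at `V`. -/
def Centralised (F : FusionSystem S) (C : FusionSystem U) (p : ℕ) (X V : Subgroup Ω) : Prop :=
  U ≤ Subgroup.centralizer ((X ⊔ V : Subgroup Ω) : Set Ω) ∧
    ∀ P : Subgroup Ω, P ≤ U → ∀ a ∈ C.autGroup P, (orderOf a).Coprime p →
      ∃ ψ ∈ F.autGroup (P ⊔ (X ⊔ V)), (∀ x : P, (ψ (Subgroup.inclusion le_sup_left x) : Ω) = (a x : Ω)) ∧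
        ∀ z : ↥(P ⊔ (X ⊔ V)), (z : Ω) ∈ X ⊔ V → ψ z = z

/-- The subgroups reached by the climb. -/
def ClimbSet (W X V : Subgroup Ω) : Prop :=
  normalizerIn W X ≤ V ∧ V ≤ W ∧ X ≤ Subgroup.normalizer (V : Set Ω)

theorem inter_climbSet {V : Subgroup Ω} (h : ClimbSet W X V) {w : Ω} (hw : w ∈ W) (hwZ : w ∈ X ⊔ V) : w ∈ V := by
  have hwZ' : w ∈ ((X : Set Ω) * (V : Set Ω)) := by
    rw [← Subgroup.coe_mul_of_left_le_normalizer_right _ _ h.2.2]
    exact hwZ
  obtain ⟨x, hx, v, hv, rfl⟩ := Set.mem_mul.1 hwZ'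
  have hxW : x ∈ W := by
    have := W.mul_mem hw (W.inv_mem (h.2.1 hv))
    rwa [mul_inv_cancel_right] at this
  exact V.mul_mem (h.1 ⟨hxW, Subgroup.le_normalizer hx⟩) hv

theorem lt_climb [Finite S] [Fact p.Prime] (hS : IsPGroup p S) (hW : F.StronglyClosed W) (hX : X ≤ S)
    {V : Subgroup Ω} (h : ClimbSet W X V) (hne : V ≠ W) :
    V < normalizerIn W (X ⊔ V) ∧ ClimbSet W X (normalizerIn W (X ⊔ V)) := by
  have hWn : S ≤ Subgroup.normalizer (W : Set Ω) := stronglyClosed_le_normalizer hW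
  have hVle : V ≤ normalizerIn W (X ⊔ V) := le_inf h.2.1 (le_sup_right.trans Subgroup.le_normalizer)
  refine ⟨lt_of_le_of_ne hVle fun he => ?_, h.1.trans hVle, inf_le_left, ?_⟩
  · have hlt : X ⊔ V < X ⊔ W := lt_of_le_of_ne (sup_le_sup_left h.2.1 X) fun he' =>
      hne (le_antisymm h.2.1 fun w hw => inter_climbSet h hw (he'.ge (Subgroup.mem_sup_right hw)))
    have hV : X ⊔ W ≤ S := sup_le hX hW.1
    haveI := finite_of_le hV
    obtain ⟨g, hg, hgZ⟩ := SetLike.exists_of_lt (lt_normalizerIn (hS.to_le hV) hlt)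
    have hg' : g ∈ ((X : Set Ω) * (W : Set Ω)) := by
      rw [← Subgroup.coe_mul_of_left_le_normalizer_right _ _ (hX.trans hWn)]
      exact hg.1
    obtain ⟨x, hx, w, hw, rfl⟩ := Set.mem_mul.1 hg'
    have hwn := mul_mem (inv_mem (Subgroup.le_normalizer (Subgroup.mem_sup_left (T := V) hx))) hg.2
    rw [inv_mul_cancel_left] at hwn
    exact hgZ (Subgroup.mul_mem_sup hx (he.ge ⟨hw, hwn⟩))
  · intro x hx
    haveI : Finite ((normalizerIn W (X ⊔ V) : Subgroup Ω) : Set Ω) :=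
      finite_of_le ((inf_le_left : normalizerIn W (X ⊔ V) ≤ W).trans hW.1)
    refine Subgroup.mem_normalizer_fintype (S := ((normalizerIn W (X ⊔ V) : Subgroup Ω) : Set Ω)) fun w hw => ⟨(Subgroup.mem_normalizer_iff.1 (hWn (hX hx)) w).1 hw.1, ?_⟩
    have hxn : x ∈ Subgroup.normalizer ((X ⊔ V : Subgroup Ω) : Set Ω) := Subgroup.le_normalizer (Subgroup.mem_sup_left hx)
    exact mul_mem (mul_mem hxn hw.2) (Subgroup.inv_mem _ hxn)

/-- The key extension. -/
theorem climb_step [Finite S] [Fact p.Prime] (hS : IsPGroup p S) (hF : F.IsSaturated p) (hW : F.StronglyClosed W)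
    (hX : F.IsFullyNormalized X) (hUS : U ≤ S) {V : Subgroup Ω} (hV : ClimbSet W X V) {P : Subgroup Ω} (hP : P ≤ U)
    (hUc : U ≤ Subgroup.centralizer ((X ⊔ V : Subgroup Ω) : Set Ω))
    {a : MulAut P} (hac : (orderOf a).Coprime p) : ∀ ψ ∈ F.autGroup (P ⊔ (X ⊔ V)),
    (∀ x : P, (ψ (Subgroup.inclusion le_sup_left x) : Ω) = (a x : Ω)) →
    (∀ z : ↥(P ⊔ (X ⊔ V)), (z : Ω) ∈ X ⊔ V → ψ z = z) →
    ∃ ψ' ∈ F.autGroup (P ⊔ (X ⊔ normalizerIn W (X ⊔ V))),
      (∀ x : P, (ψ' (Subgroup.inclusion le_sup_left x) : Ω) = (a x : Ω)) ∧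
      ∀ z : ↥(P ⊔ (X ⊔ normalizerIn W (X ⊔ V))), (z : Ω) ∈ X ⊔ normalizerIn W (X ⊔ V) → ψ' z = z := by
  classical
  set V1 := normalizerIn W (X ⊔ V) with hV1
  set Z := X ⊔ V with hZ
  set Q := P ⊔ Z with hQdef
  intro ψ₀ hψ₀ hψ₀a hψ₀Z
  have hV1S : V1 ≤ S := (inf_le_left : V1 ≤ W).trans hW.1
  have hXS := hX.1
  have hZS : Z ≤ S := sup_le hXS (hV.2.1.trans hW.1)
  have hPS : P ≤ S := hP.trans hUS
  have hQS : Q ≤ S := sup_le hPS hZS
  have hWn : S ≤ Subgroup.normalizer (W : Set Ω) := stronglyClosed_le_normalizer hW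
  haveI := finite_of_le hQS
  haveI := finite_mulAut_of_le hQS
  obtain ⟨ψ, hψ, vψ, hvψ, hψv, hψa, jψ, hjψ⟩ := exists_pPrime_extension (le_sup_left : P ≤ Q) hQS hac
    (pow_orderOf_eq_one a) hψ₀ hψ₀a
  have hψZ : ∀ z : Q, (z : Ω) ∈ Z → ψ z = z := by
    rw [hjψ]
    clear hjψ
    induction jψ with
    | zero => intro z _; simp
    | succ j ih => intro z hz; rw [pow_succ', MulAut.mul_apply, ih z hz]; exact hψ₀Z z hz
  -- `P` is moved only inside `V`
  have hmove : ∀ t ∈ V1, ∀ y ∈ P, y⁻¹ * (t * y * t⁻¹) ∈ V := by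
    intro t ht y hy
    refine hV.1 ⟨?_, Subgroup.centralizer_le_normalizer _ (mul_mem (inv_mem ?_) ?_)⟩
    · have h1 : y⁻¹ * t * y ∈ W := by
        have := (Subgroup.mem_normalizer_iff.1 (hWn (S.inv_mem (hPS hy))) t).1 ht.1
        rwa [inv_inv] at this
      have := W.mul_mem h1 (W.inv_mem ht.1)
      show y⁻¹ * (t * y * t⁻¹) ∈ W
      rwa [show y⁻¹ * (t * y * t⁻¹) = y⁻¹ * t * y * t⁻¹ by group]
    · exact Subgroup.centralizer_le (le_sup_left : X ≤ Z) (hUc (hP hy))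
    · refine Subgroup.mem_centralizer_iff.2 fun x hx => ?_
      have hx' : t⁻¹ * x * t ∈ Z := (Subgroup.mem_normalizer_iff''.1 ht.2 x).1 (Subgroup.mem_sup_left hx)
      have h := Subgroup.mem_centralizer_iff.1 (hUc (hP hy)) _ hx'
      calc x * (t * y * t⁻¹) = t * (t⁻¹ * x * t * y) * t⁻¹ := by group
        _ = t * (y * (t⁻¹ * x * t)) * t⁻¹ := by rw [h]
        _ = t * y * t⁻¹ * x := by group
  have hG : ∀ g ∈ X ⊔ V1, g ∈ Subgroup.normalizer (Z : Set Ω) :=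
    fun g hg => (sup_le (le_sup_left.trans Subgroup.le_normalizer) inf_le_right :
      X ⊔ V1 ≤ Subgroup.normalizer (Z : Set Ω)) hg
  have hV1Q : V1 ≤ Subgroup.normalizer (Q : Set Ω) := fun t ht => Subgroup.mem_normalizer_fintype fun y hy => by
    have hle : Q ≤ Q.comap (MulAut.conj t).toMonoidHom := by
      refine sup_le (fun y hy => ?_) fun y hy => ?_
      · show t * y * t⁻¹ ∈ Q
        rw [show t * y * t⁻¹ = y * (y⁻¹ * (t * y * t⁻¹)) by group]
        exact Subgroup.mul_mem_sup hy (Subgroup.mem_sup_right (hmove t ht y hy))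
      · exact Subgroup.mem_sup_right ((Subgroup.mem_normalizer_iff.1 (hG t (Subgroup.mem_sup_right ht)) y).1 hy)
    exact hle hy
  have hQV : ∀ g ∈ Q ⊔ V1, g ∈ Subgroup.normalizer (Q : Set Ω) := fun g hg =>
    (sup_le Subgroup.le_normalizer hV1Q : Q ⊔ V1 ≤ Subgroup.normalizer (Q : Set Ω)) hg
  have hPn : P ≤ Subgroup.normalizer (Z : Set Ω) := hP.trans (hUc.trans (Subgroup.centralizer_le_normalizer _))
  have hQZ : ∀ g ∈ Q ⊔ V1, g ∈ Subgroup.normalizer (Z : Set Ω) := fun g hg =>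
    (sup_le (sup_le hPn Subgroup.le_normalizer) inf_le_right : Q ⊔ V1 ≤ Subgroup.normalizer (Z : Set Ω)) hg
  -- the automorphisms fixing `Z` and trivial modulo `Z`
  let M0 : Subgroup (MulAut Q) :=
    { carrier := {d | ∀ z : Q, (z : Ω)⁻¹ * (d z : Ω) ∈ Z}
      one_mem' := fun z => by simp
      mul_mem' := by
        rintro d e hd he z
        have h := Z.mul_mem (he z) (hd (e z))
        rwa [mul_assoc, mul_inv_cancel_left] at h
      inv_mem' := by
        rintro d hd z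
        have h := Z.inv_mem (hd (d⁻¹ z))
        rwa [MulAut.apply_inv_self, mul_inv_rev, inv_inv] at h }
  let K0 : Subgroup (MulAut Q) :=
    { carrier := {d | ∀ z : Q, (z : Ω) ∈ Z → d z = z}
      one_mem' := fun z _ => rfl
      mul_mem' := fun {d e} hd he z hz => by rw [MulAut.mul_apply, he z hz, hd z hz]
      inv_mem' := fun {d} hd z hz => by conv_lhs => rw [← hd z hz, MulAut.inv_apply_self] }
  let Kz : Subgroup (MulAut Q) := F.autGroup Q ⊓ (K0 ⊓ M0)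
  let A : Subgroup (MulAut Q) := autInducedBy (Q ⊔ V1) Q
  let R : Subgroup (MulAut Q) := A ⊔ Kz
  have hAF : A ≤ F.autGroup Q :=
    (autInducedBy_mono (sup_le hQS hV1S)).trans (autInducedBy_le_autGroup hQS)
  have hRF : R ≤ F.autGroup Q := sup_le hAF inf_le_left
  have hKp : IsPGroup p Kz := fun ⟨d, _, hd0, hdm⟩ => by
    obtain ⟨k, hk⟩ := stab_pElement hS hQS hd0 hdm
    exact ⟨k, Subtype.ext hk⟩
  have hAn : A ≤ Subgroup.normalizer (Kz : Set (MulAut Q)) := by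
    intro s hs
    refine Subgroup.mem_normalizer_fintype fun d hd => ?_
    obtain ⟨g, hg, hsg⟩ := mem_autInducedBy.1 hs
    obtain ⟨hdF, hd0, hdm⟩ := hd
    refine ⟨mul_mem (mul_mem (hAF hs) hdF) (Subgroup.inv_mem _ (hAF hs)), fun z hz => ?_, fun z => ?_⟩
    · obtain ⟨u, rfl⟩ := s.surjective z
      have hu : (u : Ω) ∈ Z := by
        rw [hsg] at hz
        exact (Subgroup.mem_normalizer_iff.1 (hQZ g hg) _).2 hz
      rw [MulAut.mul_apply, MulAut.mul_apply, MulAut.inv_apply_self, hd0 u hu]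
    · obtain ⟨u, rfl⟩ := s.surjective z
      rw [MulAut.mul_apply, MulAut.mul_apply, MulAut.inv_apply_self, hsg, hsg]
      have h := (Subgroup.mem_normalizer_iff.1 (hQZ g hg) _).1 (hdm u)
      convert h using 1
      group
  have hRp : IsPGroup p R :=
    IsPGroup.to_sup_of_normal_right' (isPGroup_autInducedBy (hS.to_le (sup_le hQS hV1S))) hKp hAn
  have hcA : ∀ g (hg : g ∈ Q ⊔ V1), conjAut Q (hQV g hg) ∈ R := fun g hg =>
    Subgroup.mem_sup_left (conjAut_mem_autInducedBy _ hg)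
  have hcR : ∀ t (ht : t ∈ V1), conjAut Q (hV1Q ht) ∈ R := fun t ht => hcA t (Subgroup.mem_sup_right ht)
  have hψK0 : ψ ∈ K0 := hψZ
  have hψM0 : ∀ d ∈ M0, ψ * d * ψ⁻¹ ∈ M0 := by
    intro d hd z
    obtain ⟨u, rfl⟩ := ψ.surjective z
    rw [MulAut.mul_apply, MulAut.mul_apply, MulAut.inv_apply_self]
    have h1 : ψ (u⁻¹ * d u) = u⁻¹ * d u := hψZ _ (by simpa using hd u)
    rw [map_mul, map_inv] at h1
    have h2 := congrArg Subtype.val h1
    simp only [Subgroup.coe_mul, Subgroup.coe_inv] at h2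
    rw [h2]
    exact hd u
  have hψR : R ≤ R.comap (MulAut.conj ψ).toMonoidHom := by
    refine sup_le (fun s hs => ?_) fun d hd => Subgroup.mem_sup_right
      ⟨mul_mem (mul_mem hψ hd.1) (Subgroup.inv_mem _ hψ), ?_, hψM0 d hd.2.2⟩
    · obtain ⟨g, hg, hsg⟩ := mem_autInducedBy.1 hs
      rw [show s = conjAut Q (hQV g hg) from MulEquiv.ext fun x => Subtype.ext (hsg x)]
      let G1 : Subgroup (Subgroup.normalizer (Q : Set Ω)) :=
        (R.comap (MulAut.conj ψ).toMonoidHom).comap Q.normalizerMonoidHom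
      have hle : Q ⊔ V1 ≤ G1.map (Subgroup.normalizer (Q : Set Ω)).subtype := by
        refine sup_le (fun q hq => ⟨⟨q, Subgroup.le_normalizer hq⟩, ?_, rfl⟩) fun t ht => ⟨⟨t, hV1Q ht⟩, ?_, rfl⟩
        · show ψ * conjAut Q _ * ψ⁻¹ ∈ R
          refine Subgroup.mem_sup_left (mem_autInducedBy.2 ⟨(ψ ⟨q, hq⟩ : Ω), Subgroup.mem_sup_left (ψ _).2, fun z => ?_⟩)
          obtain ⟨u, rfl⟩ := ψ.surjective z
          rw [MulAut.mul_apply, MulAut.mul_apply, MulAut.inv_apply_self]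
          have e : conjAut Q (Subgroup.le_normalizer hq) u = ⟨q, hq⟩ * u * ⟨q, hq⟩⁻¹ := Subtype.ext rfl
          rw [e, map_mul, map_mul, map_inv]
          rfl
        · show ψ * conjAut Q _ * ψ⁻¹ ∈ R
          set cc := conjAut Q (hV1Q ht)
          have hcM : cc ∈ M0 := fun z => by
            show (z : Ω)⁻¹ * (t * z * t⁻¹) ∈ Z
            have hz' : (z : Ω) ∈ ((P : Set Ω) * (Z : Set Ω)) := by
              rw [← Subgroup.coe_mul_of_left_le_normalizer_right _ _ hPn]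
              exact z.2
            obtain ⟨y, hy, w, hw, hyw⟩ := Set.mem_mul.1 hz'
            have h1 : w⁻¹ * (y⁻¹ * (t * y * t⁻¹)) * (t * w * t⁻¹) ∈ Z := Z.mul_mem (Z.mul_mem (Z.inv_mem hw)
              (Subgroup.mem_sup_right (hmove t ht y hy))) ((Subgroup.mem_normalizer_iff.1 ht.2 w).1 hw)
            rw [← hyw]
            convert h1 using 1
            group
          rw [show ψ * cc * ψ⁻¹ = (ψ * cc * ψ⁻¹ * cc⁻¹) * cc by group]
          refine mul_mem (Subgroup.mem_sup_right ⟨mul_mem (mul_mem (mul_mem hψ (hRF (hcR t ht))) (Subgroup.inv_mem _ hψ))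
            (Subgroup.inv_mem _ (hRF (hcR t ht))), ?_, mul_mem (hψM0 _ hcM) (Subgroup.inv_mem _ hcM)⟩) (hcR t ht)
          intro z hz
          obtain ⟨u, rfl⟩ := cc.surjective z
          have hu : (u : Ω) ∈ Z := (Subgroup.mem_normalizer_iff.1 ht.2 _).2 hz
          have hui : ψ⁻¹ u = u := (inv_mem hψK0 : ψ⁻¹ ∈ K0) u hu
          rw [MulAut.mul_apply, MulAut.inv_apply_self, MulAut.mul_apply, MulAut.mul_apply, hui,
            hψZ _ hz]
      obtain ⟨⟨g', hg'⟩, hG1, hge⟩ := hle hg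
      change g' = g at hge
      subst hge
      exact hG1
    · intro z hz
      obtain ⟨u, rfl⟩ := ψ.surjective z
      have hu : (u : Ω) ∈ Z := by
        have h := (inv_mem hψK0 : ψ⁻¹ ∈ K0) (ψ u) hz
        rw [MulAut.inv_apply_self] at h
        rw [h]; exact hz
      show (ψ * d * ψ⁻¹) (ψ u) = ψ u
      rw [MulAut.mul_apply, MulAut.mul_apply, MulAut.inv_apply_self, hd.2.1 u hu]
  -- the position
  obtain ⟨Q', hQQ', hQ'fn⟩ := exists_isFullyNormalized F hQS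
  obtain ⟨e0, he0⟩ := isConj_iff.1 hQQ'
  obtain ⟨hfc, -, Rs, hRs⟩ := isFullyAutomized_and_fc_of_fn hS hF hQ'fn
  have hQ'S := hQ'fn.1
  haveI := finite_mulAut_of_le hQ'S
  let R0 : Subgroup (MulAut Q') := R.map (MulAut.congr e0).toMonoidHom
  have hR0F : R0 ≤ F.autGroup Q' := by
    rintro _ ⟨d, hd, rfl⟩
    exact congr_mem_autGroup he0 (hRF hd)
  have hR0p : IsPGroup p (R0.subgroupOf (F.autGroup Q')) := (hRp.map _).comap_subtype
  obtain ⟨Rb, hRb⟩ := hR0p.exists_le_sylow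
  obtain ⟨β, hβ⟩ := MulAction.exists_smul_eq (F.autGroup Q') Rb Rs
  let θ : Q ≃* Q' := e0.trans (β : MulAut Q')
  have hθ : IsoIn F θ := he0.trans ((mem_autGroup hQ'S).1 β.2)
  have hRS : ∀ d ∈ R, MulAut.congr θ d ∈ autInducedBy S Q' := by
    intro d hd
    let y : F.autGroup Q' := ⟨_, hR0F ⟨d, hd, rfl⟩⟩
    have hy2 : β * y * β⁻¹ ∈ (Rs : Subgroup (F.autGroup Q')) := by
      rw [← hβ, Sylow.coe_subgroup_smul]
      exact Subgroup.smul_mem_pointwise_smul y (MulAut.conj β) _ (hRb (show (y : MulAut Q') ∈ R0 from ⟨d, hd, rfl⟩))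
    rw [hRs, Subgroup.mem_subgroupOf] at hy2
    convert hy2 using 1
    exact MulEquiv.ext fun x => by simp [θ, y, MulAut.congr, MulAut.mul_apply, MulAut.inv_apply]
  have hθr : (Q'.subtype.comp θ.toMonoidHom).range = Q' := by
    ext y
    exact ⟨fun ⟨x, hx⟩ => hx ▸ (θ x).2, fun hy => ⟨θ.symm ⟨y, hy⟩, by simp⟩⟩
  have hrec := isReceptive_of_fc hS hF hfc
  obtain ⟨Θ, hΘ, hΘe⟩ := hrec.2 Q _ hθ hθr
  have hle : Q ⊔ V1 ≤ extender S Q (Q'.subtype.comp θ.toMonoidHom) := by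
    refine sup_le (le_extender hQS fun x => hQ'S (θ x).2) fun t ht => ?_
    obtain ⟨s, hs, hse⟩ := mem_autInducedBy.1 (hRS _ (hcR t ht))
    refine mem_extender_of (hV1S ht) (hV1Q ht) hs fun x hx => ?_
    show (θ _ : Ω) = s * (θ x : Ω) * s⁻¹
    rw [← hse (θ x)]
    simp [MulAut.congr]
    rfl
  set Θ' := Θ.comp (Subgroup.inclusion hle) with hΘ'def
  have hΘ' : Θ' ∈ F.Hom (Q ⊔ V1) := restrict_mem hΘ hle
  have hΘQ : ∀ x : Q, Θ' (Subgroup.inclusion le_sup_left x) = (θ x : Ω) := fun x => hΘe x x.2 _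
  let R' : Subgroup (MulAut Q') := R.map (MulAut.congr θ).toMonoidHom
  let K : Subgroup Ω :=
    ((R'.comap Q'.normalizerMonoidHom).map (Subgroup.normalizer (Q' : Set Ω)).subtype) ⊓ S
  have hK : ∀ {g : Ω}, g ∈ K ↔ g ∈ S ∧ ∃ hn : g ∈ Subgroup.normalizer (Q' : Set Ω), conjAut Q' hn ∈ R' := by
    intro g
    constructor
    · rintro ⟨⟨⟨g', hg'⟩, hR, rfl⟩, hgS⟩
      exact ⟨hgS, hg', hR⟩
    · rintro ⟨hgS, hn, hR⟩
      exact ⟨⟨⟨g, hn⟩, hR, rfl⟩, hgS⟩
  have hKS : K ≤ S := inf_le_right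
  haveI := finite_of_le hKS
  have hΘK : ∀ g, Θ' g ∈ K := by
    intro g
    have hgn : Θ' g ∈ Subgroup.normalizer (Q' : Set Ω) := mem_normalizer_of_aut
      (α := MulAut.congr θ (conjAut Q (hQV g g.2))) fun x => by
        obtain ⟨u, rfl⟩ := θ.surjective x
        show (θ (conjAut Q (hQV g g.2) (θ.symm (θ u))) : Ω) = _
        rw [MulEquiv.symm_apply_apply, ← hΘQ, ← hΘQ, ← map_inv, ← map_mul, ← map_mul]
        rfl
    refine hK.2 ⟨hom_mem hΘ' g, hgn, ⟨conjAut Q (hQV g g.2), hcA g g.2, MulEquiv.ext fun x => Subtype.ext ?_⟩⟩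
    obtain ⟨u, rfl⟩ := θ.surjective x
    show (θ (conjAut Q (hQV g g.2) (θ.symm (θ u))) : Ω) = Θ' g * (θ u : Ω) * (Θ' g)⁻¹
    rw [MulEquiv.symm_apply_apply, ← hΘQ, ← hΘQ, ← map_inv, ← map_mul, ← map_mul]
    rfl
  -- the automorphism at the position
  have hψ' : MulAut.congr θ ψ ∈ F.autGroup Q' := congr_mem_autGroup hθ hψ
  have hψr : (Q'.subtype.comp (MulAut.congr θ ψ).toMonoidHom).range = Q' := by
    ext y
    exact ⟨fun ⟨x, hx⟩ => hx ▸ (MulAut.congr θ ψ x).2,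
      fun hy => ⟨(MulAut.congr θ ψ)⁻¹ ⟨y, hy⟩, by simp⟩⟩
  obtain ⟨Φ, hΦ, hΦe⟩ := hrec.2 Q' _ ((mem_autGroup hQ'S).1 hψ') hψr
  have hψR' : ∀ {g : Ω} (hg : g ∈ K), ∃ hn : g ∈ Subgroup.normalizer (Q' : Set Ω),
      MulAut.congr θ ψ * conjAut Q' hn * (MulAut.congr θ ψ)⁻¹ ∈ R' := by
    intro g hg
    obtain ⟨-, hn, d, hd, hde⟩ := hK.1 hg
    exact ⟨hn, _, hψR hd, by rw [← hde]; exact MulEquiv.ext fun x => by simp [MulAut.congr, MulAut.mul_apply, MulAut.inv_apply]⟩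
  have hKe : K ≤ extender S Q' (Q'.subtype.comp (MulAut.congr θ ψ).toMonoidHom) := by
    intro g hg
    obtain ⟨hn, d, hd, hde⟩ := hψR' hg
    obtain ⟨s, hs, hse⟩ := mem_autInducedBy.1 (hRS d hd)
    refine mem_extender_of (hKS hg) hn hs fun x hx => ?_
    show (MulAut.congr θ ψ _ : Ω) = s * (MulAut.congr θ ψ x : Ω) * s⁻¹
    rw [← hse (MulAut.congr θ ψ x)]
    change MulAut.congr θ d = _ at hde
    rw [hde, MulAut.mul_apply, MulAut.mul_apply, MulAut.inv_apply_self]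
    rfl
  have hQ'K : Q' ≤ K := fun y hy => by
    obtain ⟨x, hx⟩ := θ.surjective ⟨y, hy⟩
    have h := hΘK (Subgroup.inclusion le_sup_left x)
    rw [hΘQ, hx] at h
    exact h
  have hΦv : ∀ g, Φ (Subgroup.inclusion hKe g) ∈ K := by
    intro g
    set gK := Subgroup.inclusion hKe g with hgK
    obtain ⟨hn, hR⟩ := hψR' g.2
    have hval : ∀ u : Q', (MulAut.congr θ ψ (conjAut Q' hn u) : Ω) = Φ gK * (MulAut.congr θ ψ u : Ω) * (Φ gK)⁻¹ := by
      intro u
      have hmem : ∀ w : Q', (w : Ω) ∈ extender S Q' (Q'.subtype.comp (MulAut.congr θ ψ).toMonoidHom) :=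
        fun w => hKe (hQ'K w.2)
      have e1 : ∀ w : Q', Φ ⟨(w : Ω), hmem w⟩ = (MulAut.congr θ ψ w : Ω) := fun w => hΦe _ w.2 _
      rw [← e1, ← e1, ← map_inv, ← map_mul, ← map_mul]
      exact congrArg Φ (Subtype.ext rfl)
    have hψs : ∀ x : Q', ((MulAut.congr θ ψ * conjAut Q' hn * (MulAut.congr θ ψ)⁻¹) x : Ω) =
        Φ gK * (x : Ω) * (Φ gK)⁻¹ := by
      intro x
      obtain ⟨u, rfl⟩ := (MulAut.congr θ ψ).surjective x
      rw [MulAut.mul_apply, MulAut.mul_apply, MulAut.inv_apply_self]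
      exact hval u
    refine hK.2 ⟨hom_mem hΦ _, mem_normalizer_of_aut hψs, ?_⟩
    convert hR using 1
    exact MulEquiv.ext fun x => Subtype.ext (hψs x).symm
  obtain ⟨Φ', hΦ', hΦ'e⟩ := exists_aut_of_hom (restrict_mem hΦ hKe) hΦv
  have hψc : (orderOf (MulAut.congr θ ψ)).Coprime p := by
    rw [MulEquiv.orderOf_eq]
    exact coprime_of_pow_eq_one hvψ hψv
  obtain ⟨θK, hθK, v₂, hv₂, hθv, hθe, -⟩ := exists_pPrime_extension hQ'K hKS hψc (pow_orderOf_eq_one _) hΦ'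
    fun x => (hΦ'e _).trans (hΦe _ x.2 _)
  have hθQ : ∀ q : Q, ∀ h : (θ q : Ω) ∈ K, (θK ⟨(θ q : Ω), h⟩ : Ω) = (θ (ψ q) : Ω) := fun q h => by
    rw [show (⟨(θ q : Ω), h⟩ : K) = Subgroup.inclusion hQ'K (θ q) from rfl, hθe]
    show (θ (ψ (θ.symm (θ q))) : Ω) = _
    rw [MulEquiv.symm_apply_apply]
  -- the image of `X`
  have hXQ : X ≤ Q := le_sup_left.trans le_sup_right
  set X' := ((Q'.subtype.comp θ.toMonoidHom).comp (Subgroup.inclusion hXQ)).range with hX'def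
  have hθX : (Q'.subtype.comp θ.toMonoidHom).comp (Subgroup.inclusion hXQ) ∈ F.Hom X := restrict_mem hθ hXQ
  have hX'S : X' ≤ S := range_le hθX
  obtain ⟨hXfc, hXfa⟩ := isFullyAutomized_and_fc_of_fn hS hF hX
  obtain ⟨μ, hμ, hμv, hμX⟩ := exists_normalizer_map hS hXfa (isReceptive_of_fc hS hF hXfc)
    (isConj_symm ⟨_, hθX, rfl⟩ : F.IsConj X' X)
  have hCV : centralizerIn W X ≤ Q := fun y hy => Subgroup.mem_sup_right (Subgroup.mem_sup_right
    (hV.1 ⟨hy.1, Subgroup.centralizer_le_normalizer _ hy.2⟩))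
  have hC' : centralizerIn W X' ≤ normalizerIn S X' := fun y hy =>
    ⟨hW.1 hy.1, Subgroup.centralizer_le_normalizer _ hy.2⟩
  have hfwd : ∀ y : centralizerIn W X, (θ (Subgroup.inclusion hCV y) : Ω) ∈ centralizerIn W X' := by
    intro y
    refine mem_centralizerIn.2 ⟨stronglyClosed_apply_mem hW hθ (x := Subgroup.inclusion hCV y) y.2.1, ?_⟩
    rintro _ ⟨x, rfl⟩
    show (θ _ : Ω) * (θ (Subgroup.inclusion hXQ x) : Ω) = (θ (Subgroup.inclusion hXQ x) : Ω) * (θ _ : Ω)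
    rw [← Subgroup.coe_mul, ← Subgroup.coe_mul, ← map_mul, ← map_mul]
    exact congrArg (fun w => (θ w : Ω)) (Subtype.ext ((mem_centralizerIn.1 y.2).2 x x.2))
  have hbwd : ∀ y : centralizerIn W X', μ (Subgroup.inclusion hC' y) ∈ centralizerIn W X := by
    intro y
    refine mem_centralizerIn.2 ⟨stronglyClosed_apply_mem hW hμ (x := Subgroup.inclusion hC' y) y.2.1, fun x hx => ?_⟩
    obtain ⟨w, hw, hwX, rfl⟩ := mem_map_subgroupOf.1 (hμX.ge hx)
    rw [← map_mul, ← map_mul]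
    exact congrArg μ (Subtype.ext ((mem_centralizerIn.1 y.2).2 w hwX))
  haveI := finite_of_le ((centralizerIn_le (S := W) X').trans hW.1)
  haveI := finite_of_le ((centralizerIn_le (S := W) X).trans hW.1)
  have hbij : Function.Bijective (fun y => (⟨_, hfwd y⟩ : centralizerIn W X')) := by
    refine Function.Injective.bijective_of_nat_card_le (fun y y' h => ?_)
      (Nat.card_le_card_of_injective (fun y => (⟨_, hbwd y⟩ : centralizerIn W X)) fun y y' h => ?_)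
    · exact Subgroup.inclusion_injective hCV (θ.injective (Subtype.ext (congrArg Subtype.val h :)))
    · exact Subgroup.inclusion_injective hC' (F.injective_of_mem hμ (congrArg Subtype.val h :))
  have hWK : ∀ w ∈ W.subgroupOf K, θK w ∈ W.subgroupOf K := fun w hw =>
    stronglyClosed_aut_mem hW hθK hKS hw
  have hX'K : ∀ b ∈ X'.subgroupOf K, θK b = b := by
    rintro ⟨b, hbK⟩ ⟨x, hx⟩
    change (θ (Subgroup.inclusion hXQ x) : Ω) = b at hx
    subst hx
    refine Subtype.ext ((hθQ _ hbK).trans ?_)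
    rw [hψZ _ (Subgroup.mem_sup_left x.2)]
  have hfixW : ∀ w ∈ W.subgroupOf K, θK w = w := by
    refine fix_of_fix_centralizer (hS.to_le hKS) (coprime_of_pow_eq_one hv₂ hθv) hWK hX'K ?_ fun w hw hc => ?_
    · intro b hb
      refine Subgroup.mem_normalizer_fintype fun w hw => ?_
      exact (Subgroup.mem_normalizer_iff.1 (hWn (hKS b.2)) w).1 hw
    · have hwC : (w : Ω) ∈ centralizerIn W X' := mem_centralizerIn.2 ⟨hw, fun x hx =>
        congrArg Subtype.val (hc ⟨x, hQ'K (by obtain ⟨z, rfl⟩ := hx; exact (θ _).2)⟩ hx)⟩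
      obtain ⟨y, hy⟩ := hbij.2 ⟨_, hwC⟩
      have hy' : (θ (Subgroup.inclusion hCV y) : Ω) = w := congrArg Subtype.val hy
      refine Subtype.ext ?_
      conv_rhs => rw [← hy']
      rw [show w = ⟨(θ (Subgroup.inclusion hCV y) : Ω), hy' ▸ w.2⟩ from Subtype.ext hy'.symm, hθQ,
        hψZ _ (Subgroup.mem_sup_right (hV.1 ⟨y.2.1, Subgroup.centralizer_le_normalizer _ y.2.2⟩))]
  -- pulled back
  set f := homIso hΘ' (rfl : Θ'.range = Θ'.range)
  have hfI : IsoIn F f := isoIn_homIso hΘ' rfl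
  have hY : Θ'.range ≤ K := by
    rintro _ ⟨g, rfl⟩
    exact hΘK g
  have hV1fix : ∀ g : ↥(Q ⊔ V1), (g : Ω) ∈ V1 → θK ⟨Θ' g, hΘK g⟩ = ⟨Θ' g, hΘK g⟩ := fun g hg =>
    hfixW _ (stronglyClosed_apply_mem hW hΘ' (inf_le_left (a := W) hg))
  have hYv : ∀ y : Θ'.range, (θK (Subgroup.inclusion hY y) : Ω) ∈ Θ'.range := by
    rintro ⟨_, g, rfl⟩
    refine hom_mem_of_sup (f := (K.subtype.comp θK.toMonoidHom).comp (Θ'.codRestrict K hΘK))
      (fun g hg => ?_) (fun g hg => ?_) g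
    · refine ⟨Subgroup.inclusion le_sup_left (ψ ⟨(g : Ω), hg⟩), ?_⟩
      have hmem : (θ ⟨(g : Ω), hg⟩ : Ω) ∈ K := hQ'K (θ _).2
      rw [hΘQ, ← hθQ ⟨(g : Ω), hg⟩ hmem]
      exact congrArg (fun z => (θK z : Ω)) (Subtype.ext (hΘQ ⟨(g : Ω), hg⟩).symm)
    · exact ⟨g, congrArg Subtype.val (hV1fix g hg).symm⟩
  obtain ⟨θY, hθY, hθYe⟩ := exists_aut_restrict hKS hθK hY hYv
  set ψ1 := MulAut.congr f.symm θY with hψ1def
  have hψ1 : ψ1 ∈ F.autGroup (Q ⊔ V1) := congr_mem_autGroup hfI.symm hθY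
  have hψ1e : ∀ g g' : ↥(Q ⊔ V1), (θK ⟨Θ' g, hΘK g⟩ : Ω) = Θ' g' → ψ1 g = g' := by
    intro g g' h
    show f.symm (θY (f g)) = g'
    rw [MulEquiv.symm_apply_eq]
    exact Subtype.ext ((hθYe _).trans h)
  have hψ1Q : ∀ q : Q, ψ1 (Subgroup.inclusion le_sup_left q) = Subgroup.inclusion le_sup_left (ψ q) := by
    intro q
    refine hψ1e _ _ ?_
    exact (congrArg (fun z => (θK z : Ω)) (Subtype.ext (hΘQ q))).trans
      ((hθQ q (hQ'K (θ q).2)).trans (hΘQ _).symm)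
  have hfix : ∀ z : ↥(Q ⊔ V1), (z : Ω) ∈ X ⊔ V1 → ψ1 z = z := by
    let Fx : Subgroup ↥(Q ⊔ V1) :=
      { carrier := {z | ψ1 z = z}
        one_mem' := map_one _
        mul_mem' := fun {x y} hx hy => by
          show ψ1 (x * y) = x * y
          rw [map_mul, show ψ1 x = x from hx, show ψ1 y = y from hy]
        inv_mem' := fun {x} hx => by
          show ψ1 x⁻¹ = x⁻¹
          rw [map_inv, show ψ1 x = x from hx] }
    have hle : X ⊔ V1 ≤ Fx.map (Q ⊔ V1).subtype := by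
      refine sup_le (fun x hx => ⟨⟨x, Subgroup.mem_sup_left (hXQ hx)⟩, ?_, rfl⟩)
        fun t ht => ⟨⟨t, Subgroup.mem_sup_right ht⟩, hψ1e _ _ (congrArg Subtype.val (hV1fix _ ht)), rfl⟩
      refine (hψ1Q ⟨x, hXQ hx⟩).trans ?_
      rw [hψZ _ (Subgroup.mem_sup_left hx)]
      rfl
    intro z hz
    obtain ⟨w, hw, hwz⟩ := hle hz
    rw [show z = w from Subtype.ext hwz.symm]
    exact hw
  have hle1 : P ⊔ (X ⊔ V1) ≤ Q ⊔ V1 :=
    sup_le (le_sup_left.trans le_sup_left) (sup_le (hXQ.trans le_sup_left) le_sup_right)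
  have hval : ∀ y : P, (ψ1 (Subgroup.inclusion hle1 (Subgroup.inclusion le_sup_left y)) : Ω) = (a y : Ω) := fun y => by
    have h := congrArg Subtype.val (hψ1Q (Subgroup.inclusion le_sup_left y))
    exact h.trans (hψa y)
  obtain ⟨ψ', hψ', hψ'e⟩ := exists_aut_restrict (sup_le hQS hV1S) hψ1 hle1
    (hom_mem_of_sup (f := (((Q ⊔ V1).subtype.comp ψ1.toMonoidHom)).comp (Subgroup.inclusion hle1))
      (fun z hz => by
        show (ψ1 (Subgroup.inclusion hle1 z) : Ω) ∈ P ⊔ (X ⊔ V1)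
        rw [show z = Subgroup.inclusion le_sup_left ⟨(z : Ω), hz⟩ from rfl, hval]
        exact Subgroup.mem_sup_left (a _).2)
      fun z hz => by
        show (ψ1 (Subgroup.inclusion hle1 z) : Ω) ∈ P ⊔ (X ⊔ V1)
        rw [hfix _ hz]
        exact z.2)
  exact ⟨ψ', hψ', fun x => (hψ'e _).trans (hval x), fun z hz => Subtype.ext
    ((hψ'e z).trans (congrArg Subtype.val (hfix (Subgroup.inclusion hle1 z) hz)))⟩

theorem centralised_step [Finite S] [Fact p.Prime] (hS : IsPGroup p S) (hF : F.IsSaturated p) (hW : F.StronglyClosed W)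
    (hX : F.IsFullyNormalized X) (hUS : U ≤ S) (hhyp : C.hyperfocalSubgroup p = U) {V : Subgroup Ω}
    (hV : ClimbSet W X V) (h : Centralised F C p X V) : Centralised F C p X (normalizerIn W (X ⊔ V)) := by
  obtain ⟨hUc, hex⟩ := h
  set V1 := normalizerIn W (X ⊔ V) with hV1
  have hext : ∀ P : Subgroup Ω, P ≤ U → ∀ a ∈ C.autGroup P, (orderOf a).Coprime p →
      ∃ ψ ∈ F.autGroup (P ⊔ (X ⊔ V1)), (∀ x : P, (ψ (Subgroup.inclusion le_sup_left x) : Ω) = (a x : Ω)) ∧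
        ∀ z : ↥(P ⊔ (X ⊔ V1)), (z : Ω) ∈ X ⊔ V1 → ψ z = z := fun P hP a ha hc => by
    obtain ⟨ψ, hψ, hψa, hψZ⟩ := hex P hP a ha hc
    exact climb_step hS hF hW hX hUS hV hP hUc hc ψ hψ hψa hψZ
  refine ⟨Subgroup.le_centralizer_iff.2 (sup_le ?_ ?_), hext⟩
  · exact Subgroup.le_centralizer_iff.1 (hUc.trans (Subgroup.centralizer_le (le_sup_left : X ≤ X ⊔ V)))
  intro t ht
  refine Subgroup.mem_centralizer_iff.2 fun u hu => ?_
  haveI := finite_of_le hUS
  have key : C.hyperfocalSubgroup p ≤ U ⊓ Subgroup.centralizer ({t} : Set Ω) := by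
    refine hyperfocal_le_of_coprime fun P hP a ha hc x => ⟨U.mul_mem (U.inv_mem (hP x.2)) (hP (a x).2), ?_⟩
    obtain ⟨ψ, -, hψa, hψZ⟩ := hext P hP a ha hc
    have hmain : ∀ x : P, (a x : Ω)⁻¹ * t * (a x : Ω) = (x : Ω)⁻¹ * t * (x : Ω) := by
      intro x
      set x' : ↥(P ⊔ (X ⊔ V1)) := Subgroup.inclusion le_sup_left x
      set t' : ↥(P ⊔ (X ⊔ V1)) := ⟨t, Subgroup.mem_sup_right (Subgroup.mem_sup_right ht)⟩
      have hxn : (x : Ω)⁻¹ * (t * x * t⁻¹) ∈ X ⊔ V1 := by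
        refine Subgroup.mem_sup_right ⟨?_, ?_⟩
        · have hWn : S ≤ Subgroup.normalizer (W : Set Ω) := stronglyClosed_le_normalizer hW
          have h1 : (x : Ω)⁻¹ * t * x ∈ W :=
            (Subgroup.mem_normalizer_iff''.1 (hWn (hUS (hP x.2))) t).1 ht.1
          rw [show (x : Ω)⁻¹ * (t * x * t⁻¹) = (x : Ω)⁻¹ * t * x * t⁻¹ by group]
          exact W.mul_mem h1 (W.inv_mem ht.1)
        · have hxn : (x : Ω) ∈ Subgroup.normalizer ((X ⊔ V : Subgroup Ω) : Set Ω) :=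
            Subgroup.centralizer_le_normalizer _ (hUc (hP x.2))
          exact mul_mem (Subgroup.inv_mem _ hxn) (mul_mem (mul_mem ht.2 hxn) (Subgroup.inv_mem _ ht.2))
      have h := hψZ ⟨_, Subgroup.mem_sup_right hxn⟩ hxn
      rw [show (⟨_, Subgroup.mem_sup_right hxn⟩ : ↥(P ⊔ (X ⊔ V1))) = x'⁻¹ * (t' * x' * t'⁻¹) from rfl,
        map_mul, map_mul, map_mul, map_inv, map_inv, hψZ t' (Subgroup.mem_sup_right ht)] at h
      have h2 := congrArg Subtype.val h
      simp only [Subgroup.coe_mul, Subgroup.coe_inv, x', t', hψa] at h2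
      change (a x : Ω)⁻¹ * (t * (a x : Ω) * t⁻¹) = (x : Ω)⁻¹ * (t * (x : Ω) * t⁻¹) at h2
      calc (a x : Ω)⁻¹ * t * (a x : Ω) = (a x : Ω)⁻¹ * (t * (a x : Ω) * t⁻¹) * t := by group
        _ = (x : Ω)⁻¹ * t * (x : Ω) := by rw [h2]; group
    have h := hmain x⁻¹
    rw [map_inv, Subgroup.coe_inv, Subgroup.coe_inv, inv_inv, inv_inv] at h
    refine Subgroup.mem_centralizer_singleton_iff.2 ?_
    calc (x : Ω)⁻¹ * (a x : Ω) * t = (x : Ω)⁻¹ * ((a x : Ω) * t * (a x : Ω)⁻¹) * (a x : Ω) := by group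
      _ = t * ((x : Ω)⁻¹ * (a x : Ω)) := by rw [h]; group
  exact Subgroup.mem_centralizer_singleton_iff.1 (key (hhyp.symm ▸ hu)).2

/-- The climb to the top. -/
theorem centralised_top [Finite S] [Fact p.Prime] (hS : IsPGroup p S) (hF : F.IsSaturated p) (hW : F.StronglyClosed W)
    (hX : F.IsFullyNormalized X) (hUS : U ≤ S) (hhyp : C.hyperfocalSubgroup p = U) :
    ∀ (n : ℕ) (V : Subgroup Ω), Nat.card W ≤ Nat.card V + n → ClimbSet W X V → Centralised F C p X V →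
      Centralised F C p X W := by
  intro n
  induction n with
  | zero =>
    intro V hn hV h
    rwa [← eq_of_le_of_card_le hW.1 hV.2.1 (by simpa using hn)]
  | succ n ih =>
    intro V hn hV h
    rcases eq_or_ne V W with rfl | hne
    · exact h
    obtain ⟨hlt, hV'⟩ := lt_climb hS hW hX.1 hV hne
    haveI : Finite ((normalizerIn W (X ⊔ V) : Subgroup Ω) : Set Ω) :=
      finite_of_le ((inf_le_left : normalizerIn W (X ⊔ V) ≤ W).trans hW.1)
    refine ih _ ?_ hV' (centralised_step hS hF hW hX hUS hhyp hV h)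
    have := Set.Finite.card_lt_card (Set.toFinite ((normalizerIn W (X ⊔ V) : Subgroup Ω) : Set Ω))
      (SetLike.coe_ssubset_coe.2 hlt)
    simp only [SetLike.coe_sort_coe] at this
    omega

/-- A saturated system equal to its hyperfocal part centralizing `X` and `N_W(X)` centralizes `W`. -/
theorem centralizes_of_local [Finite S] [Fact p.Prime] (hS : IsPGroup p S) (hF : F.IsSaturated p)
    (hW : F.StronglyClosed W) (hX : F.IsFullyNormalized X) (hUS : U ≤ S) (hC : C.IsSaturated p)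
    (hhyp : C.hyperfocalSubgroup p = U)
    (h : ∀ P : Subgroup Ω, C.Hom P ⊆ F.centralizerHom (X ⊔ normalizerIn W X) P) :
    ∀ P : Subgroup Ω, C.Hom P ⊆ F.centralizerHom W P := by
  have hWn : S ≤ Subgroup.normalizer (W : Set Ω) := stronglyClosed_le_normalizer hW
  set V₀ := normalizerIn W X
  have hV₀ : ClimbSet W X V₀ := by
    refine ⟨le_rfl, inf_le_left, fun x hx => ?_⟩
    haveI : Finite ((V₀ : Subgroup Ω) : Set Ω) := finite_of_le ((inf_le_left : V₀ ≤ W).trans hW.1)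
    refine Subgroup.mem_normalizer_fintype (S := ((V₀ : Subgroup Ω) : Set Ω)) fun w hw =>
      ⟨(Subgroup.mem_normalizer_iff.1 (hWn (hX.1 hx)) w).1 hw.1, ?_⟩
    exact mul_mem (mul_mem (Subgroup.le_normalizer hx) hw.2) (Subgroup.inv_mem _ (Subgroup.le_normalizer hx))
  have hUc : U ≤ Subgroup.centralizer ((X ⊔ V₀ : Subgroup Ω) : Set Ω) :=
    (h U (subtype_mem C le_rfl)).2.1.trans inf_le_right
  have h₀ : Centralised F C p X V₀ := by
    refine ⟨hUc, fun P hP a ha _ => ?_⟩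
    obtain ⟨-, -, -, ψ, hψ, hψa, hψfix⟩ := h P ((mem_autGroup hP).1 ha)
    have hfix' : ∀ z : ↥(P ⊔ (X ⊔ V₀)), (z : Ω) ∈ X ⊔ V₀ → ψ z = z := fun z hz => hψfix ⟨(z : Ω), hz⟩
    obtain ⟨Ψ, hΨ, hΨe⟩ := exists_aut_of_hom hψ (hom_mem_of_sup (fun z hz => by
        rw [show z = Subgroup.inclusion le_sup_left ⟨(z : Ω), hz⟩ from rfl, hψa]
        exact Subgroup.mem_sup_left (a _).2) fun z hz => by rw [hfix' z hz]; exact z.2)
    exact ⟨Ψ, hΨ, fun x => (hΨe _).trans (hψa x), fun z hz => Subtype.ext ((hΨe z).trans (hfix' z hz))⟩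
  obtain ⟨hUW, hex⟩ := centralised_top hS hF hW hX hUS hhyp _ V₀ (Nat.le_add_left _ _) hV₀ h₀
  have hUCW : U ≤ centralizerIn S W := le_inf hUS (hUW.trans (Subgroup.centralizer_le (le_sup_right : W ≤ X ⊔ W)))
  obtain ⟨CW, hCW⟩ := exists_centralizerSystem F hW.1
  haveI := finite_of_le hUS
  have key : C ≤ fullOn CW U hUCW := by
    refine le_of_autGroup_le (hS.to_le hUS) hC _ fun P hP => ?_
    have hPU : P ≤ U := hP.elim (fun e => e.le) fun e => e.1.1
    have hPC : P ≤ centralizerIn S W := hPU.trans hUCW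
    haveI := finite_mulAut_of_le hPU
    have hfn : C.IsFullyNormalized P := hP.elim (fun e => e ▸ isFullyNormalized_top C) fun e => e.2.1
    obtain ⟨-, R, hR⟩ := (isFullyAutomized_and_fc_of_fn (hS.to_le hUS) hC hfn).2
    refine le_of_sylow_of_coprime R (le_of_eq_of_le
      (by rw [hR, Subgroup.map_subgroupOf_eq_of_le (autInducedBy_le_autGroup hPU)])
      (autInducedBy_le_autGroup hPU)) fun a ha hc => ?_
    obtain ⟨ψ, hψ, hψa, hψfix⟩ := hex P hPU a ha hc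
    have hle : P ⊔ W ≤ P ⊔ (X ⊔ W) := sup_le_sup_left le_sup_right P
    have hV : P ⊔ (X ⊔ W) ≤ S := sup_le (hPU.trans hUS) (sup_le hX.1 hW.1)
    have hψ' := restrict_mem ((mem_autGroup hV).1 hψ) hle
    refine (mem_autGroup hPU).2 ⟨?_, hPU, fun x => hPU (a x).2⟩
    rw [hCW]
    refine ⟨hom_congr (restrict_mem hψ' le_sup_left) fun x => (hψa x).symm, hPC, fun x => hPC (a x).2,
      _, hψ', hψa, fun w => ?_⟩
    exact congrArg Subtype.val (hψfix ⟨(w : Ω), _⟩ (Subgroup.mem_sup_right w.2))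
  intro P φ hφ
  exact hCW P ▸ (key P hφ).1

end Cfsg.Lib.FusionSys
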