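import Cfsg.Agent.Lib.FusionSys.EBalance.Power
import Cfsg.Agent.Lib.FusionSys.NormalInConstrained

/-!
The automorphisms of `P` in the subsystem over `P T` of `p`-power index of the product system are carried by
every map of the saturated system into those of the image.
-/

set_option autoImplicit false
set_option linter.style.haveILetI false

namespace Cfsg.Lib.FusionSys

open Cfsg Cfsg.FusionSystem
open scoped Pointwise

variable {Ω : Type*} [Group Ω] {S T : Subgroup Ω} {F : FusionSystem S} {E : FusionSystem T} {p : ℕ}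

/-- The order of a join with a normalized subgroup. -/
theorem card_sup_mul_inf [Finite S] {A B : Subgroup Ω} (hA : A ≤ S) (hB : B ≤ S)
    (hn : B ≤ Subgroup.normalizer (A : Set Ω)) :
    Nat.card ↥(B ⊔ A) * Nat.card ↥(B ⊓ A) = Nat.card B * Nat.card A := by
  haveI : (A.subgroupOf (B ⊔ A)).Normal :=
    Subgroup.normal_subgroupOf_of_le_normalizer (sup_le hn Subgroup.le_normalizer)
  have h3 : A.relIndex (B ⊔ A) = A.relIndex B := by
    have e1 := Subgroup.relIndex_sup_left (H := B.subgroupOf (B ⊔ A)) (K := A.subgroupOf (B ⊔ A))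
    rw [← Subgroup.subgroupOf_sup le_sup_right le_sup_left, sup_comm A B, Subgroup.subgroupOf_self,
      Subgroup.relIndex_top_right, Subgroup.relIndex_subgroupOf le_sup_left] at e1
    exact e1
  have h1 : Nat.card A * A.relIndex (B ⊔ A) = Nat.card ↥(B ⊔ A) := by
    rw [Subgroup.relIndex, ← Nat.card_congr (Subgroup.subgroupOfEquivOfLe (le_sup_right : A ≤ B ⊔ A)).toEquiv]
    exact Subgroup.card_mul_index _
  have h2 : Nat.card ↥(B ⊓ A) * A.relIndex B = Nat.card B := by
    rw [Subgroup.relIndex, inf_comm, ← Subgroup.inf_subgroupOf_right,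
      ← Nat.card_congr (Subgroup.subgroupOfEquivOfLe (inf_le_right : A ⊓ B ≤ B)).toEquiv]
    exact Subgroup.card_mul_index _
  rw [← h1, h3, mul_assoc, mul_comm (A.relIndex B), h2, mul_comm]

namespace ProdCtx

/-- The automorphisms of `P` in the subsystem over `P T`. -/
def kap (c : ProdCtx F E p) (P : Subgroup Ω) : Subgroup (MulAut P) where
  carrier := {a | ∀ (R : Subgroup Ω) (D : FusionSystem R), c.IsOver D → P ⊔ T ≤ R → a ∈ D.autGroup P}
  one_mem' := fun _ _ _ _ => one_mem _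
  mul_mem' := fun ha hb R D h h' => mul_mem (ha R D h h') (hb R D h h')
  inv_mem' := fun ha R D h h' => inv_mem (ha R D h h')

variable (c : ProdCtx F E p)
include c
variable [Finite S] [Fact p.Prime]

theorem sup_le_S {P : Subgroup Ω} (hP : P ≤ S) : P ⊔ T ≤ S := sup_le hP c.hTS

theorem mem_kap {P : Subgroup Ω} {D : FusionSystem (P ⊔ T)} (hD : c.IsOver D) {a : MulAut P}
    (ha : a ∈ D.autGroup P) : a ∈ c.kap P := fun R D' hD' hle =>
  (mem_autGroup (le_sup_left.trans hle)).2 (c.over_mono hD hD' hle P ((mem_autGroup le_sup_left).1 ha))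

theorem kap_le_pSys {P : Subgroup Ω} (hP : P ≤ S) : c.kap P ≤ (c.pSys 0).autGroup P := fun a ha => by
  obtain ⟨D, hD⟩ := c.exists_over le_sup_right (c.sup_le_S hP)
  exact (mem_autGroup hP).2 (hD.2.1 P ((mem_autGroup le_sup_left).1 (ha _ D hD le_rfl)))

theorem kap_of_coprime {P : Subgroup Ω} {a : MulAut P} (ha : a ∈ (c.pSys 0).autGroup P)
    (hc : (orderOf a).Coprime p) : a ∈ c.kap P := fun _ _ hD hle =>
  c.over_mem hD (le_sup_left.trans hle) ha hc

theorem kap_of_conj {P : Subgroup Ω} {a : MulAut P} (ha : a ∈ autInducedBy (P ⊔ T) P) : a ∈ c.kap P :=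
  fun _ _ _ hle => autInducedBy_le_autGroup (le_sup_left.trans hle) (autInducedBy_mono hle ha)

/-- The image of `P T` under an extension of a map on `P`. -/
theorem range_sup {P P' : Subgroup Ω} {f : P ≃* P'} {φ : ↥(P ⊔ T) →* Ω} (hφ : φ ∈ F.Hom (P ⊔ T))
    (he : ∀ x : P, φ (Subgroup.inclusion le_sup_left x) = (f x : Ω)) : φ.range = P' ⊔ T := by
  have hr : (φ.comp (Subgroup.inclusion (le_sup_right : T ≤ P ⊔ T))).range = T :=
    range_eq_of_card_le (restrict_mem hφ _) c.hTS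
      (fun t => stronglyClosed_apply_mem c.sc hφ (x := Subgroup.inclusion le_sup_right t) t.2) le_rfl
  refine le_antisymm ?_ (sup_le (fun y hy => ?_) fun y hy => ?_)
  · rintro _ ⟨x, rfl⟩
    refine hom_mem_of_sup (fun z hz => ?_) (fun z hz => ?_) x
    · rw [show z = Subgroup.inclusion le_sup_left ⟨(z : Ω), hz⟩ from rfl, he]
      exact Subgroup.mem_sup_left (f _).2
    · exact Subgroup.mem_sup_right (stronglyClosed_apply_mem c.sc hφ hz)
  · exact ⟨Subgroup.inclusion le_sup_left (f.symm ⟨y, hy⟩), by rw [he, MulEquiv.apply_symm_apply]⟩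
  · obtain ⟨t, ht⟩ := hr.ge hy
    exact ⟨_, ht⟩

/-- Transport along a map extending to `P T`. -/
theorem kap_congr_of_ext {P P' : Subgroup Ω} {f : P ≃* P'} {φ : ↥(P ⊔ T) →* Ω} (hφ : φ ∈ F.Hom (P ⊔ T))
    (he : ∀ x : P, φ (Subgroup.inclusion le_sup_left x) = (f x : Ω)) {a : MulAut P} :
    a ∈ c.kap P ↔ MulAut.congr f a ∈ c.kap P' := by
  set e := homIso hφ (c.range_sup hφ he) with hedef
  have heI : IsoIn F e := isoIn_homIso hφ _
  obtain ⟨D, hD⟩ := c.exists_over le_sup_right (hom_le hφ)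
  obtain ⟨D', hD'⟩ := c.exists_over le_sup_right (heI.le_right)
  have hfe : ∀ x : P, (f x : Ω) = (e (Subgroup.inclusion le_sup_left x) : Ω) := fun x => (he x).symm
  refine ⟨fun ha => c.mem_kap hD' (c.over_transport hD hD' le_sup_right heI le_sup_left hfe (ha _ D hD le_rfl)),
    fun ha => c.mem_kap hD ?_⟩
  have hfe' : ∀ x : P', (f.symm x : Ω) = (e.symm (Subgroup.inclusion le_sup_left x) : Ω) := fun x => by
    obtain ⟨y, rfl⟩ := f.surjective x
    rw [MulEquiv.symm_apply_apply, show Subgroup.inclusion le_sup_left (f y) =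
      e (Subgroup.inclusion le_sup_left y) from Subtype.ext (hfe y), MulEquiv.symm_apply_apply]
    rfl
  have h := c.over_transport hD' hD le_sup_right heI.symm le_sup_left hfe' (ha _ D' hD' le_rfl)
  convert h using 1
  exact MulEquiv.ext fun x => by simp [MulAut.congr]

/-- Transport along a map of a subsystem over a subgroup containing `T`. -/
theorem kap_congr_of_over {R : Subgroup Ω} {D : FusionSystem R} (hD : c.IsOver D) (hTR : T ≤ R)
    {P P' : Subgroup Ω} (hPR : P ≤ R) {f : P ≃* P'} (hf : IsoIn D f) {a : MulAut P} (ha : a ∈ c.kap P) :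
    MulAut.congr f a ∈ c.kap P' := by
  have hRS := c.over_le hD
  have hPS := hPR.trans hRS
  obtain ⟨D₁, hD₁⟩ := c.exists_over le_sup_right (c.sup_le_S hPS)
  obtain ⟨r, hr, d, hd, hde⟩ := c.over_decompose hD₁ le_sup_right (Nat.card R) hD (sup_le hPR hTR) le_rfl
    (hf : P'.subtype.comp f.toMonoidHom ∈ D.Hom P) le_sup_left
  set P'' := d.range with hP''
  set g := homIso hd (rfl : d.range = P'') with hg
  have hgI : IsoIn D₁ g := isoIn_homIso hd rfl
  have hgF : IsoIn F g := c.over_sub hD₁ P hgI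
  have hP''le : P'' ≤ P ⊔ T := range_le hd
  have hP''S : P'' ≤ S := hP''le.trans (c.sup_le_S hPS)
  have hsup : P'' ⊔ T = P ⊔ T := by
    refine eq_of_le_of_card_le (c.sup_le_S hPS) (sup_le hP''le le_sup_right) (le_of_eq ?_)
    have hn : ∀ {Q : Subgroup Ω}, Q ≤ S → Q ≤ Subgroup.normalizer (T : Set Ω) := fun h =>
      h.trans (stronglyClosed_le_normalizer c.sc)
    have e1 := card_sup_mul_inf c.hTS hPS (hn hPS)
    have e2 := card_sup_mul_inf c.hTS hP''S (hn hP''S)
    rw [card_range hd, ← card_eq_of_isConj (c.inter_conj hgF), ← e1] at e2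
    haveI := finite_of_le (inf_le_left.trans hPS : P ⊓ T ≤ S)
    exact (mul_right_cancel₀ Nat.card_pos.ne' e2).symm
  have h1 : MulAut.congr g a ∈ c.kap P'' := by
    intro R' D' hD' hle
    have h : MulAut.congr g a ∈ D₁.autGroup P'' := congr_mem_autGroup hgI (ha _ D₁ hD₁ le_rfl)
    exact (mem_autGroup (le_sup_left.trans hle)).2
      (c.over_mono hD₁ hD' (hsup.ge.trans hle) P'' ((mem_autGroup hP''le).1 h))
  have hP'S : P' ≤ S := hf.le_right.trans hRS
  let k : P'' ≃* P' := g.symm.trans f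
  have hk : ∀ y : P'', (k y : Ω) = r * (y : Ω) * r⁻¹ := fun y => by
    obtain ⟨x, rfl⟩ := g.surjective y
    show (f (g.symm (g x)) : Ω) = _
    rw [MulEquiv.symm_apply_apply]
    exact hde x
  have h2 := (c.kap_congr_of_ext (F.conj_mem (c.sup_le_S hP''S) (hRS hr)) fun y => (hk y).symm).1 h1
  convert h2 using 1
  exact MulEquiv.ext fun x => by simp [k, MulAut.congr]

/-- At an essential subgroup of the system the intersection with `T` is self-centralizing. -/
theorem uCentric_of_essentialF {Q : Subgroup Ω} (hQ : F.IsEssential p Q) : UCentric F T (Q ⊓ T) := by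
  have hQS : Q ≤ S := hQ.1.1
  have key : ∀ {Q' : Subgroup Ω} {e : Q ≃* Q'}, IsoIn F e → centralizerIn T (Q' ⊓ T) ≤ Q' ⊓ T := by
    intro Q' e he
    by_contra hC
    set C := centralizerIn T (Q' ⊓ T) with hCdef
    have hCT : C ≤ T := centralizerIn_le _
    have hQ'S : Q' ≤ S := he.le_right
    have hn : Q' ≤ Subgroup.normalizer (C : Set Ω) := by
      haveI := finite_of_le (hCT.trans c.hTS)
      intro g hg
      refine Subgroup.mem_normalizer_fintype fun x hx => ?_
      refine mem_centralizerIn.2 ⟨c.tmem_conj (hQ'S hg) (hCT hx), fun y hy => ?_⟩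
      have hy' : g⁻¹ * y * g ∈ Q' ⊓ T :=
        ⟨Q'.mul_mem (Q'.mul_mem (Q'.inv_mem hg) hy.1) hg, c.tmem_conj' (hQ'S hg) hy.2⟩
      calc g * x * g⁻¹ * y = g * (x * (g⁻¹ * y * g)) * g⁻¹ := by group
        _ = g * (g⁻¹ * y * g * x) * g⁻¹ := by rw [(mem_centralizerIn.1 hx).2 _ hy']
        _ = y * (g * x * g⁻¹) := by group
    have hV : Q' ⊔ C ≤ S := sup_le hQ'S (hCT.trans c.hTS)
    haveI := finite_of_le hV
    have hlt : Q' < Q' ⊔ C := lt_of_le_of_ne le_sup_left fun h => hC fun x hx =>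
      ⟨h.symm.le (Subgroup.mem_sup_right hx), hCT hx⟩
    obtain ⟨g, hgN, hgQ⟩ := SetLike.exists_of_lt (lt_normalizerIn (c.pS.to_le hV) hlt)
    have hg' : g ∈ ((Q' : Set Ω) * (C : Set Ω)) := by
      rw [← Subgroup.coe_mul_of_left_le_normalizer_right _ _ hn]
      exact hgN.1
    obtain ⟨q, hq, z, hz, rfl⟩ := Set.mem_mul.1 hg'
    have hzn : z ∈ Subgroup.normalizer (Q' : Set Ω) := by
      have h := mul_mem (inv_mem (Subgroup.le_normalizer hq)) hgN.2
      rwa [inv_mul_cancel_left] at h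
    have hzS : z ∈ S := c.hTS (hCT hz)
    haveI := finite_mulAut_of_le hQ'S
    have hzk : conjAut Q' hzn ∈ kerT F T Q' :=
      ⟨autInducedBy_le_autGroup hQ'S (conjAut_mem_autInducedBy hzn hzS),
        fun x hx => Subtype.ext (conj_eq_of_commute ((mem_centralizerIn.1 hz).2 x ⟨x.2, hx⟩)),
        fun x => by
          show (x : Ω)⁻¹ * (z * x * z⁻¹) ∈ T
          have h := T.mul_mem (c.tmem_conj' (hQ'S x.2) (hCT hz)) (T.inv_mem (hCT hz))
          convert h using 1
          group⟩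
    have hkn : ((kerT F T Q').subgroupOf (F.autGroup Q')).Normal :=
      ⟨fun d hd b => c.kerT_normal hQ'S hd b.2⟩
    have hkp : IsPGroup p ((kerT F T Q').subgroupOf (F.autGroup Q')) := fun d => by
      obtain ⟨i, hi⟩ := c.kerT_pElement hQ'S d.2
      exact ⟨i, Subtype.ext (Subtype.ext hi)⟩
    have hcore : conjAut Q' hzn ∈ coreAut F p Q' :=
      ⟨⟨_, hzk.1⟩, Cfsg.Lib.Core.le_pCore' hkn hkp (Subgroup.mem_subgroupOf.2 hzk), rfl⟩
    obtain ⟨w₀, hw₀⟩ := (isRadical_of_isEssential c.pS hQ).2.le (congr_mem_coreAut he.symm hcore)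
    have hinn : conjAut Q' hzn ∈ Inn Q' := by
      refine ⟨e w₀, MulEquiv.ext fun y => ?_⟩
      have h1 := congrArg (fun d : MulAut Q => e (d (e.symm y))) hw₀
      simpa [MulAut.congr] using h1
    exact hgQ (Q'.mul_mem hq (mem_of_conjAut_mem_inn (hQ.1.2 Q' (isConj_iff.2 ⟨e, he⟩)) hQ'S hzS
      (fun _ => rfl) hinn))
  obtain ⟨U0, hU0, hfn⟩ := exists_isFullyNormalized F (inf_le_left.trans hQS : Q ⊓ T ≤ S)
  obtain ⟨hfc, hfa⟩ := isFullyAutomized_and_fc_of_fn c.pS c.sat hfn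
  have hrec := isReceptive_of_fc c.pS c.sat hfc
  obtain ⟨ν, hν, hνv, hνU⟩ := exists_normalizer_map c.pS hfa hrec hU0
  have hQN : Q ≤ normalizerIn S (Q ⊓ T) := fun g hg =>
    ⟨hQS hg, mem_normalizer_inter (Subgroup.le_normalizer hg) (stronglyClosed_le_normalizer c.sc (hQS hg))⟩
  have hνQ := restrict_mem hν hQN
  set e := homIso hνQ (rfl : _ = (ν.comp (Subgroup.inclusion hQN)).range) with he
  have heF : IsoIn F e := isoIn_homIso hνQ rfl
  have hC0 := key heF
  have hint : (ν.comp (Subgroup.inclusion hQN)).range ⊓ T = U0 := by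
    rw [← hνU]
    ext y
    rw [mem_map_subgroupOf]
    constructor
    · rintro ⟨⟨x, rfl⟩, hy⟩
      have hx : (x : Ω) ∈ T := by
        have h := stronglyClosed_apply_mem c.sc heF.symm (x := e x) hy
        change ((e.symm (e x) : Q) : Ω) ∈ T at h
        rwa [MulEquiv.symm_apply_apply] at h
      exact ⟨(x : Ω), hQN x.2, ⟨x.2, hx⟩, rfl⟩
    · rintro ⟨x, hx, hxU, rfl⟩
      exact ⟨⟨⟨x, hxU.1⟩, rfl⟩, stronglyClosed_apply_mem c.sc hν (x := ⟨x, hx⟩) hxU.2⟩
  rw [hint] at hC0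
  have hU0T : U0 ≤ T := hint ▸ inf_le_right
  have hUE : UCentric F T U0 := by
    refine ⟨hU0T, fun A hA y hy => ?_⟩
    obtain ⟨μ, hμ, -, hμU⟩ := exists_normalizer_map c.pS hfa hrec (isConj_symm hA)
    obtain ⟨hyT, hyc⟩ := mem_centralizerIn.1 hy
    have hyN : y ∈ normalizerIn S A :=
      centralizerIn_le_normalizerIn _ (mem_centralizerIn.2 ⟨c.hTS hyT, hyc⟩)
    have hμy : μ ⟨y, hyN⟩ ∈ U0 := by
      refine hC0 (mem_centralizerIn.2 ⟨stronglyClosed_apply_mem c.sc hμ (x := ⟨y, hyN⟩) hyT, fun u hu => ?_⟩)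
      obtain ⟨w, hw, hwA, rfl⟩ := mem_map_subgroupOf.1 (hμU.ge hu)
      rw [← map_mul, ← map_mul]
      exact congrArg μ (Subtype.ext (hyc w hwA))
    obtain ⟨w, hw, hwA, hwe⟩ := mem_map_subgroupOf.1 (hμU.ge hμy)
    rw [← show w = y from congrArg Subtype.val (F.injective_of_mem hμ hwe)]
    exact hwA
  exact hUE.of_conj c.sc (isConj_symm hU0)

/-- The system of the maps carrying the automorphisms over `P T` into each other. -/
def kapSys : FusionSystem S where
  Hom W := {φ | φ ∈ F.Hom W ∧ ∀ (P P' : Subgroup Ω) (e : P ≃* P') (h : P ≤ W),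
    (∀ x : P, (e x : Ω) = φ (Subgroup.inclusion h x)) → ∀ a, (a ∈ c.kap P ↔ MulAut.congr e a ∈ c.kap P')}
  le_of_mem h := F.le_of_mem h.1
  injective_of_mem h := F.injective_of_mem h.1
  conj_mem := fun {W g} hW hg => ⟨F.conj_mem hW hg, fun P P' e h he a =>
    c.kap_congr_of_ext (F.conj_mem (c.sup_le_S (h.trans hW)) hg) fun x => (he x).symm⟩
  comp_mem := by
    rintro W W₁ φ ψ ⟨hφ, hφ'⟩ ⟨hψ, hψ'⟩ hv
    refine ⟨F.comp_mem hφ hψ hv, fun P P' e h he a => ?_⟩
    set g := homIso (restrict_mem hφ h) (rfl : _ = (φ.comp (Subgroup.inclusion h)).range)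
    have hle : (φ.comp (Subgroup.inclusion h)).range ≤ W₁ := by
      rintro _ ⟨x, rfl⟩
      exact hv _
    have h2 := hψ' _ _ (g.symm.trans e) hle (fun y => by
      obtain ⟨x, rfl⟩ := g.surjective y
      show (e (g.symm (g x)) : Ω) = _
      rw [MulEquiv.symm_apply_apply, he]
      rfl) (MulAut.congr g a)
    refine (hφ' _ _ g h (fun x => rfl) a).trans (h2.trans (iff_of_eq ?_))
    congr 1
    exact MulEquiv.ext fun x => by simp [MulAut.congr]
  inv_mem := by
    rintro W φ ⟨hφ, hφ'⟩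
    obtain ⟨ρ, hρ, hρe⟩ := F.inv_mem hφ
    refine ⟨ρ, ⟨hρ, fun P P' e h he a => ?_⟩, hρe⟩
    have hy : ∀ y : P', ∃ hy : (y : Ω) ∈ W, φ ⟨(y : Ω), hy⟩ = (e.symm y : Ω) := fun y => by
      obtain ⟨x, rfl⟩ := e.surjective y
      obtain ⟨w, hw⟩ := h x.2
      have h1 : (e x : Ω) = w := by
        rw [he, show Subgroup.inclusion h x = ⟨φ w, w, rfl⟩ from Subtype.ext hw.symm]
        exact hρe w
      refine ⟨h1 ▸ w.2, ?_⟩
      rw [MulEquiv.symm_apply_apply]
      exact (congrArg φ (Subtype.ext h1)).trans hw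
    have hle : P' ≤ W := fun y hy' => (hy ⟨y, hy'⟩).1
    refine ((hφ' P' P e.symm hle (fun y => (hy y).2.symm) (MulAut.congr e a)).trans (iff_of_eq ?_)).symm
    congr 1
    exact MulEquiv.ext fun x => by simp [MulAut.congr]

theorem le_kapSys : F ≤ c.kapSys := by
  refine le_of_autGroup_le' c.pS c.sat _ fun Q hQ hbig => ?_
  have hQS : Q ≤ S := hQ.elim (fun e => e.le) fun e => e.1.1
  by_cases hTQ : T ≤ Q
  · intro α hα
    refine (mem_autGroup hQS).2 ⟨(mem_autGroup hQS).1 hα, fun P P' e h he a => ?_⟩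
    exact c.kap_congr_of_ext (restrict_mem ((mem_autGroup hQS).1 hα) (sup_le h hTQ)) fun x => (he x).symm
  have hess : F.IsEssential p Q := hQ.resolve_left fun h => hTQ (h ▸ c.hTS)
  have hH : InH F T Q := ⟨hQS, c.uCentric_of_essentialF hess⟩
  have hfn : F.IsFullyNormalized Q := hess.2.1
  haveI := finite_mulAut_of_le hQS
  haveI := finite_of_le hQS
  obtain ⟨hfc, -, Rs, hRs⟩ := isFullyAutomized_and_fc_of_fn c.pS c.sat hfn
  let L : Subgroup (F.autGroup Q) := (bAut F E Q).subgroupOf (F.autGroup Q)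
  haveI hLn : L.Normal := ⟨fun d hd b => c.bAut_normal hQS hd b.2⟩
  have hL : bAut F E Q ≤ c.kapSys.autGroup Q := by
    intro b hb
    obtain ⟨Rb, hRb⟩ := exists_sylow_inf Rs L
    have h := le_of_sylow_of_coprime (A := L) (M := (c.kapSys.autGroup Q).comap (F.autGroup Q).subtype) Rb
      ?_ ?_ (show (⟨b, hb.1⟩ : F.autGroup Q) ∈ L from hb)
    · exact h
    · rintro x ⟨y, hy, rfl⟩
      rw [SetLike.mem_coe, hRb, Subgroup.mem_subgroupOf, hRs, Subgroup.mem_subgroupOf] at hy
      exact autInducedBy_le_autGroup hQS hy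
    · intro x hx hc
      have hc' : (orderOf (x : MulAut Q)).Coprime p := by rwa [Subgroup.orderOf_coe]
      have hx' : (x : MulAut Q) ∈ (c.pSys 0).autGroup Q :=
        c.aGenP_le_pSys hH (Subgroup.subset_closure ⟨hx, hc'⟩)
      obtain ⟨D, hD⟩ := c.exists_over le_sup_right (c.sup_le_S hQS)
      have hxD := c.over_mem hD le_sup_left hx' hc'
      refine (mem_autGroup hQS).2 ⟨(mem_autGroup hQS).1 x.2, fun P P' e h he a => ?_⟩
      have hi : IsoIn D e := hom_congr (restrict_mem ((mem_autGroup le_sup_left).1 hxD) h) fun y => he y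
      refine ⟨fun ha => c.kap_congr_of_over hD le_sup_right (h.trans le_sup_left) hi ha, fun ha => ?_⟩
      have h2 := c.kap_congr_of_over hD le_sup_right hi.le_right hi.symm ha
      convert h2 using 1
      exact MulEquiv.ext fun y => by simp [MulAut.congr]
  intro β hβ
  obtain ⟨b, hbN, l, hl, hbl⟩ := exists_normalizer_factor Rs L ⟨β, hβ⟩
  suffices hb : (b : MulAut Q) ∈ c.kapSys.autGroup Q by
    rw [show β = (b : MulAut Q) * (l : MulAut Q) from congrArg Subtype.val hbl]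
    exact mul_mem hb (hL hl)
  have hrange : (Q.subtype.comp (b : MulAut Q).toMonoidHom).range = Q := by
    ext y
    exact ⟨fun ⟨x, e⟩ => e ▸ ((b : MulAut Q) x).2,
      fun hy => ⟨(b : MulAut Q)⁻¹ ⟨y, hy⟩, by simp⟩⟩
  obtain ⟨ψ, hψ, hψe⟩ := (isReceptive_of_fc c.pS c.sat hfc).2 Q _ ((mem_autGroup hQS).1 b.2) hrange
  set M := Q ⊔ normalizerIn T Q with hMdef
  have hM : M ≤ extender S Q (Q.subtype.comp (b : MulAut Q).toMonoidHom) := by
    refine sup_le (le_extender hQS (hom_mem ((mem_autGroup hQS).1 b.2))) fun t ht => ?_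
    have htS := c.hTS ht.1
    have hb' : conjAut Q ht.2 ∈ bAut F E Q := by
      refine ⟨autInducedBy_le_autGroup hQS (conjAut_mem_autInducedBy ht.2 htS), fun x => ?_, ?_⟩
      · show (x : Ω)⁻¹ * (t * x * t⁻¹) ∈ T
        have h := T.mul_mem (c.tmem_conj' (hQS x.2) ht.1) (T.inv_mem ht.1)
        convert h using 1
        group
      · have htn : t ∈ Subgroup.normalizer ((Q ⊓ T : Subgroup Ω) : Set Ω) :=
          mem_normalizer_inter ht.2 (stronglyClosed_le_normalizer c.sc htS)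
        exact ⟨conjAut _ htn, autInducedBy_le_autGroup inf_le_right (conjAut_mem_autInducedBy htn ht.1),
          fun x => rfl⟩
    have hcmem : (⟨_, hb'.1⟩ : F.autGroup Q) ∈ (Rs : Subgroup (F.autGroup Q)) ⊓ L :=
      ⟨by rw [hRs]; exact conjAut_mem_autInducedBy ht.2 htS, hb'⟩
    have h1 := ((Subgroup.mem_normalizer_iff.1 hbN _).1 hcmem).1
    rw [hRs] at h1
    obtain ⟨s, hsS, hse⟩ := mem_autInducedBy.1 h1
    refine mem_extender_of htS ht.2 hsS fun x hx => ?_
    show (((b : MulAut Q) _ : Q) : Ω) = s * (((b : MulAut Q) x : Q) : Ω) * s⁻¹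
    rw [← hse ((b : MulAut Q) x)]
    show _ = (((b : MulAut Q) (conjAut Q ht.2 ((b : MulAut Q)⁻¹ ((b : MulAut Q) x)))) : Ω)
    rw [MulAut.inv_apply_self]
    exact congrArg (fun z => (((b : MulAut Q) z : Q) : Ω)) (Subtype.ext rfl)
  have hMS : M ≤ S := hM.trans ((extender_le _).trans (normalizerIn_le Q))
  haveI := finite_of_le hMS
  have hlt : Q < M := by
    refine lt_of_le_of_ne le_sup_left fun h => ?_
    have hNT : normalizerIn T Q ≤ Q := (le_sup_right : _ ≤ M).trans h.ge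
    have hQT : Q < Q ⊔ T := lt_of_le_of_ne le_sup_left fun h' => hTQ ((le_sup_right : T ≤ Q ⊔ T).trans h'.ge)
    have hV : Q ⊔ T ≤ S := sup_le hQS c.hTS
    haveI := finite_of_le hV
    obtain ⟨g, hgN, hgQ⟩ := SetLike.exists_of_lt (lt_normalizerIn (c.pS.to_le hV) hQT)
    have hg' : g ∈ ((Q : Set Ω) * (T : Set Ω)) := by
      rw [← Subgroup.coe_mul_of_left_le_normalizer_right _ _ (hQS.trans (stronglyClosed_le_normalizer c.sc))]
      exact hgN.1
    obtain ⟨q, hq, z, hz, rfl⟩ := Set.mem_mul.1 hg'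
    have hzn := mul_mem (inv_mem (Subgroup.le_normalizer hq)) hgN.2
    rw [inv_mul_cancel_left] at hzn
    exact hgQ (Q.mul_mem hq (hNT ⟨hz, hzn⟩))
  have hψM := hbig M (Set.Finite.card_lt_card (Set.toFinite _) hlt) (restrict_mem hψ hM)
  exact (mem_autGroup hQS).2 (hom_congr (restrict_mem hψM hlt.le) fun x => (hψe _ x.2 _).symm)

/-- The invariance. -/
theorem kap_congr {P P' : Subgroup Ω} {e : P ≃* P'} (he : IsoIn F e) {a : MulAut P} (ha : a ∈ c.kap P) :
    MulAut.congr e a ∈ c.kap P' :=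
  ((c.le_kapSys P he).2 P P' e le_rfl (fun _ => rfl) a).1 ha

end ProdCtx

end Cfsg.Lib.FusionSys
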