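import Cfsg.Agent.Lib.FusionSys.EBalance.NormalX
import Cfsg.Agent.Lib.FusionSys.EBalance.Climb
import Cfsg.Agent.Lib.FusionSys.ComponentExists
import Cfsg.Agent.Lib.FusionSys.ComponentCentralizes
import Cfsg.Agent.Lib.FusionSys.NormalizerModel

/-!
E-balance: the layer of the normalizer of a fully normalized subgroup lies in the layer.
-/

set_option autoImplicit false
set_option linter.style.haveILetI false
set_option maxHeartbeats 1600000

namespace Cfsg.Lib.FusionSys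

open Cfsg Cfsg.FusionSystem

variable {Ω : Type*} [Group Ω] {S T U X : Subgroup Ω} {F : FusionSystem S} {p : ℕ}

/-- A quasisimple system lives on a nontrivial group. -/
theorem quasisimple_ne_bot [Finite U] [Fact p.Prime] {C : FusionSystem U} (hq : C.Quasisimple p) : U ≠ ⊥ := by
  intro hU
  obtain ⟨E, hE⟩ := exists_factorSystem (F := C) (T := C.center)
    (S' := (⊤ : Subgroup (↥U ⧸ (C.center).subgroupOf U)))
    (isNormal_stronglyClosed (isNormal_of_isCentral (isCentral_center C)))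
    (θ := QuotientGroup.mk' _) (fun s => QuotientGroup.eq_one_iff s)
    (MonoidHom.range_eq_top.2 (QuotientGroup.mk'_surjective _))
  refine (hq.2.2 E hE).2.1 (eq_bot_iff.2 fun y _ => ?_)
  obtain ⟨x, rfl⟩ := QuotientGroup.mk'_surjective _ y
  have hx : (x : Ω) = 1 := Subgroup.mem_bot.1 (hU.le x.2)
  exact Subgroup.mem_bot.2 ((QuotientGroup.eq_one_iff x).2
    (show (x : Ω) ∈ C.center by rw [hx]; exact one_mem _))

/-- A quasisimple system has a nontrivial automorphism of order prime to `p`. -/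
theorem quasisimple_moves [Finite U] [Fact p.Prime] {C : FusionSystem U} (hq : C.Quasisimple p)
    (h : ∀ P : Subgroup Ω, P ≤ U → ∀ a ∈ C.autGroup P, (orderOf a).Coprime p → ∀ x : P, a x = x) : False := by
  refine quasisimple_ne_bot hq (eq_bot_iff.2 (hq.2.1.ge.trans (hyperfocal_le_of_coprime fun P hP a ha hc x => ?_)))
  rw [h P hP a ha hc x, inv_mul_cancel]
  exact Subgroup.one_mem _

theorem quasisimple_not_fixed [Finite U] [Fact p.Prime] {C : FusionSystem U} (hq : C.Quasisimple p)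
    {Z : Subgroup Ω} (hUZ : U ≤ Z) (hC : ∀ P : Subgroup Ω, C.Hom P ⊆ F.centralizerHom Z P) : False := by
  refine quasisimple_moves hq fun P hP a ha _ x => Subtype.ext ?_
  obtain ⟨-, -, -, ψ, -, hψe, hψf⟩ := hC P ((mem_autGroup hP).1 ha)
  exact (hψe x).symm.trans
    ((congrArg ψ (Subtype.ext rfl)).trans (hψf ⟨(x : Ω), hUZ (hP x.2)⟩))

/-- A component centralizes a normal subgroup. -/
theorem component_centralizes_normalSubgroup [Finite S] [Fact p.Prime] (hS : IsPGroup p S) (hF : F.IsSaturated p)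
    {C : FusionSystem U} (hC : C.IsComponentIn F p) {Q : Subgroup Ω} (hQ : F.IsNormal Q) :
    ∀ P : Subgroup Ω, C.Hom P ⊆ F.centralizerHom Q P := by
  refine component_centralizes_normal hC.1 inferInstance inferInstance hS hC.2 Q _
    (isNormalIn_inner_of_isNormal hS hF hQ) fun hsub => ?_
  have hUS : U ≤ S := hom_le (isSubsystemOf_of_isSubnormalIn hC.1 U (subtype_mem C le_rfl))
  haveI := finite_of_le hUS
  refine quasisimple_moves hC.2 fun P hP a ha hc x => ?_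
  obtain ⟨hPQ, g, hg, hge⟩ := hsub P ((mem_autGroup hP).1 ha)
  obtain ⟨k, hk⟩ := isPGroup_autInducedBy (P := P) (hS.to_le hQ.1) ⟨a, mem_autInducedBy.2 ⟨g, hg, hge⟩⟩
  rw [eq_one_of_coprime_of_pow hc (k := k) (congrArg Subtype.val hk :), MulAut.one_apply]

/-- The normalizer of a fully normalized subgroup in a normal subgroup is normal in the normalizer. -/
theorem isNormal_normalizer_inter [Finite S] (hX : X ≤ S) {Q : Subgroup Ω} (hQ : F.IsNormal Q)
    {N : FusionSystem (normalizerIn S X)} (hN : F.IsNormalizerSystem X N) : N.IsNormal (normalizerIn Q X) := by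
  have hsc := isNormal_stronglyClosed hQ
  refine ⟨fun y hy => ⟨hQ.1 hy.1, hy.2⟩, fun P φ hφ => ?_⟩
  rw [hN] at hφ
  obtain ⟨-, hP, hv, ψ, hψ, hψe, hψX⟩ := hφ
  obtain ⟨χ, hχ, hχe, -⟩ := hQ.2 (P ⊔ X) ψ hψ
  have hXim : ∀ x (h : x ∈ (P ⊔ X) ⊔ Q), x ∈ X → χ ⟨x, h⟩ ∈ X := fun x h hx => by
    rw [show (⟨x, h⟩ : ↥((P ⊔ X) ⊔ Q)) = Subgroup.inclusion le_sup_left ⟨x, Subgroup.mem_sup_right hx⟩ from rfl, hχe]
    exact hψX.le (mem_map_subgroupOf.2 ⟨x, _, hx, rfl⟩)
  have hle : P ⊔ normalizerIn Q X ≤ (P ⊔ X) ⊔ Q :=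
    sup_le (le_sup_left.trans le_sup_left) (inf_le_left.trans le_sup_right)
  have hle' : (P ⊔ normalizerIn Q X) ⊔ X ≤ (P ⊔ X) ⊔ Q := sup_le hle (le_sup_right.trans le_sup_left)
  have hXr : ∀ y ∈ X, ∃ x, ∃ h : x ∈ (P ⊔ X) ⊔ Q, x ∈ X ∧ χ ⟨x, h⟩ = y := fun y hy => by
    obtain ⟨x, hx, hxX, rfl⟩ := mem_map_subgroupOf.1 (hψX.ge hy)
    exact ⟨x, Subgroup.mem_sup_left hx, hxX, hχe ⟨x, hx⟩⟩
  have hnorm : ∀ z (h : z ∈ (P ⊔ X) ⊔ Q), z ∈ Subgroup.normalizer (X : Set Ω) →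
      χ ⟨z, h⟩ ∈ Subgroup.normalizer (X : Set Ω) := fun z h hz => by
    haveI := finite_of_le hX
    refine Subgroup.mem_normalizer_fintype fun y hy => ?_
    obtain ⟨x, hx, hxX, rfl⟩ := hXr y hy
    rw [← map_inv, ← map_mul, ← map_mul]
    exact hXim _ _ ((Subgroup.mem_normalizer_iff.1 hz x).1 hxX)
  have hQv : ∀ z (h : z ∈ (P ⊔ X) ⊔ Q), z ∈ normalizerIn Q X → χ ⟨z, h⟩ ∈ normalizerIn Q X := fun z h hz =>
    ⟨stronglyClosed_apply_mem hsc hχ (x := ⟨z, h⟩) hz.1, hnorm z h hz.2⟩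
  set σ := χ.comp (Subgroup.inclusion hle) with hσdef
  have hσ : σ ∈ F.Hom (P ⊔ normalizerIn Q X) := restrict_mem hχ hle
  have hσe : ∀ x : P, σ (Subgroup.inclusion le_sup_left x) = φ x := fun x =>
    (hχe (Subgroup.inclusion le_sup_left x)).trans (hψe x)
  refine ⟨σ, ?_, hσe, ?_⟩
  · rw [hN]
    refine ⟨hσ, sup_le hP (fun y hy => ⟨hQ.1 hy.1, hy.2⟩), fun z => ⟨hom_mem hσ z, ?_⟩, _,
      restrict_mem hχ hle', fun z => rfl, ?_⟩
    · exact hnorm _ _ ((sup_le (hP.trans inf_le_right) inf_le_right :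
        P ⊔ normalizerIn Q X ≤ Subgroup.normalizer (X : Set Ω)) z.2)
    · ext y
      rw [mem_map_subgroupOf]
      refine ⟨fun ⟨x, hx, hxX, he⟩ => he ▸ hXim x (hle' hx) hxX, fun hy => ?_⟩
      obtain ⟨x, _, hxX, he⟩ := hXr y hy
      exact ⟨x, Subgroup.mem_sup_right hxX, hxX, he⟩
  · have hr : (σ.comp (Subgroup.inclusion (le_sup_right : normalizerIn Q X ≤ P ⊔ normalizerIn Q X))).range =
        normalizerIn Q X :=
      range_eq_of_card_le (restrict_mem hσ _) (inf_le_left.trans hQ.1) (fun z => hQv _ _ z.2) le_rfl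
    ext y
    rw [mem_map_subgroupOf]
    refine ⟨fun ⟨x, hx, hxQ, he⟩ => he ▸ hQv x (hle hx) hxQ, fun hy => ?_⟩
    obtain ⟨x, hx⟩ := hr.ge hy
    exact ⟨x, Subgroup.mem_sup_right x.2, x.2, hx⟩

/-- Maps centralizing in the normalizer centralize in the system. -/
theorem centralizerHom_of_normalizer {N : FusionSystem (normalizerIn S X)} (hN : F.IsNormalizerSystem X N)
    {V P : Subgroup Ω} {φ : P →* Ω} (hφ : φ ∈ N.centralizerHom V P) : φ ∈ F.centralizerHom V P := by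
  obtain ⟨h1, h2, h3, ψ, hψ, h4, h5⟩ := hφ
  rw [hN] at h1 hψ
  exact ⟨h1.1, fun x hx => ⟨(h2 hx).1.1, (h2 hx).2⟩, fun x => ⟨(h3 x).1.1, (h3 x).2⟩, ψ, hψ.1, h4, h5⟩

/-- E-balance. -/
theorem layer_balance [Finite S] [Fact p.Prime] (hS : IsPGroup p S) (hX : F.IsFullyNormalized X)
    {N : FusionSystem (normalizerIn S X)} (hN : F.IsNormalizerSystem X N) {EN : FusionSystem U}
    (hEN : EN.IsLayerOf N p) {E : FusionSystem T} (hE : E.IsLayerOf F p) : EN.IsSubsystemOf E := by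
  have hF := hE.1.1.2.1
  have c : ProdCtx F E p := ⟨hS, hE.1⟩
  obtain ⟨M, hM⟩ := exists_normalizerSystem (c.pSys 0) hX.1
  have d : NormCtx c X N M := ⟨hX, hN, hM⟩
  haveI := finite_of_le (normalizerIn_le (S := S) X)
  have hSN := hS.to_le (normalizerIn_le (S := S) X)
  set W₀ := normalizerIn T X with hW₀
  set W₁ := normalizerIn T X ⊔ X with hW₁
  obtain ⟨D₀, ⟨hD₀, hD₀i⟩, -⟩ := existsUnique_pPower hSN d.satM W₀ d.closed_TX.1 d.hyp_le
  obtain ⟨D₁, ⟨hD₁, hD₁i⟩, -⟩ :=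
    existsUnique_pPower hSN d.satM W₁ d.closed_TXX.1 (d.hyp_le.trans le_sup_left)
  have hD₀n := d.isNormalIn d.closed_TX le_rfl le_sup_left hD₀ hD₀i
  have hD₁n := d.isNormalIn d.closed_TXX le_sup_left le_rfl hD₁ hD₁i
  have hD₀E := d.isSubsystemOf_E inf_le_left hD₀ hD₀i
  refine fun P φ hφ => hD₀E P (hEN.2.2 W₀ D₀ hD₀n (fun V C hC => ?_) P hφ)
  have hCN := isSubsystemOf_of_isSubnormalIn hC.1
  have hVN : V ≤ normalizerIn S X := hom_le (hCN V (subtype_mem C le_rfl))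
  have hVS : V ≤ S := hVN.trans (normalizerIn_le X)
  haveI := finite_of_le hVS
  by_cases hsub : C.IsSubsystemOf D₁
  · have hCM : C.IsSubsystemOf M := fun Q ψ h => hD₁i.1 Q (hsub Q h)
    refine subsystem_le_of_pPower hSN hC.2.1 hCM ?_ hD₀i
    refine hC.2.2.1.ge.trans (hyperfocal_le_of_coprime fun Q hQ a ha hc x => d.hyp_le ?_)
    exact mem_hyperfocal_of_coprime (hQ.trans hVN) ((mem_autGroup (hQ.trans hVN)).2
      (hCM Q ((mem_autGroup hQ).1 ha))) hc x
  exfalso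
  have h1 : ∀ Q : Subgroup Ω, C.Hom Q ⊆ F.centralizerHom (X ⊔ normalizerIn T X) Q := fun Q ψ h => by
    rw [sup_comm]
    exact centralizerHom_of_normalizer hN
      (component_centralizes_normal hC.1 inferInstance inferInstance hSN hC.2 W₁ D₁ hD₁n hsub Q h)
  have hCT := centralizes_of_local hS hF c.sc hX hVS hC.2.1 hC.2.2.1 h1
  have hcoreN : F.IsNormal F.core := isNormal_core F
  have hnY : N.IsNormal (X ⊔ normalizerIn F.core X) :=
    isNormal_sup (isNormal_normalizerSystem hX.1 hN) (isNormal_normalizer_inter hX.1 hcoreN hN)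
  have h2 : ∀ Q : Subgroup Ω, C.Hom Q ⊆ F.centralizerHom (X ⊔ normalizerIn F.core X) Q := fun Q ψ h =>
    centralizerHom_of_normalizer hN (component_centralizes_normalSubgroup hSN d.satN hC hnY Q h)
  have hCQ := centralizes_of_local hS hF (isNormal_stronglyClosed hcoreN) hX hVS hC.2.1 hC.2.2.1 h2
  obtain ⟨CV, D, hCV, hidx, hD, hDC⟩ := exists_centralizer_subsystem' hS hE.1 rfl
  haveI := finite_of_le (centralizerIn_le (S := S) T)
  have hVY := le_systemCentralizer_of_hyperfocal hS hE.1 hC.2.2.1 hCT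
  have hCD : C.IsSubsystemOf D := subsystem_le_of_pPower (hS.to_le (centralizerIn_le T)) hC.2.1
    (fun Q ψ h => hCV Q ▸ hCT Q h) hVY hidx
  have hYS := hD.1.2.2.2.1.1
  haveI := finite_of_le hYS
  have hDc : D.IsConstrained p := by
    refine (constrained_iff_no_component (hS.to_le hYS) D hD.1.1).2 ?_
    rintro ⟨R, K, hK⟩
    have hKF : K.IsComponentIn F p := ⟨isSubnormalIn_trans' (.step (.refl _ _) hD) hK.1, hK.2⟩
    have hKE := hE.2.1 R K hKF
    have hRT : R ≤ T := hom_le (hKE R (subtype_mem K le_rfl))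
    haveI := finite_of_le (hRT.trans c.hTS)
    exact quasisimple_not_fixed hK.2 hRT fun Q ψ h =>
      hDC Q (isSubsystemOf_of_isSubnormalIn hK.1 Q h)
  have hVcore : V ≤ F.core := by
    intro v hv
    refine core_le_core_of_normal hS hF hD (centralizerIn_core_le hDc (mem_centralizerIn.2 ⟨hVY hv, fun q hq => ?_⟩))
    exact (mem_centralizerIn.1 ((hCQ V (subtype_mem C le_rfl)).2.1 hv)).2 q (core_le_core_of_normal hS hF hD hq)
  exact quasisimple_not_fixed hC.2 hVcore hCQ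

end Cfsg.Lib.FusionSys
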