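import Cfsg.Agent.Lib.FusionSys.EBalance.Kappa
import Cfsg.Agent.Lib.FusionSys.KNormalizer
import Cfsg.Agent.Lib.FusionSys.StageInvariant

/-!
The subsystem of the normalizer of `X` in the product system, of `p`-power index over a strongly closed subgroup
between `N_T(X)` and `N_T(X) X`, is normal in the normalizer of `X`.
-/

set_option autoImplicit false
set_option linter.style.haveILetI false
set_option maxHeartbeats 1600000

namespace Cfsg.Lib.FusionSys

open Cfsg Cfsg.FusionSystem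
open scoped Pointwise

variable {Ω : Type*} [Group Ω] {S T X : Subgroup Ω} {F : FusionSystem S} {E : FusionSystem T} {p : ℕ}
  {N : FusionSystem (normalizerIn S X)} {M : FusionSystem (normalizerIn S X)}

/-- The data: a normal subsystem, a fully normalized subgroup, its normalizers in the system and in the product. -/
structure NormCtx (c : ProdCtx F E p) (X : Subgroup Ω) (N M : FusionSystem (normalizerIn S X)) : Prop where
  fn : F.IsFullyNormalized X
  normN : F.IsNormalizerSystem X N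
  normM : (c.pSys 0).IsNormalizerSystem X M

namespace NormCtx

variable {c : ProdCtx F E p} (d : NormCtx c X N M) [Finite S] [Fact p.Prime]
include d

theorem hXS : X ≤ S := d.fn.1

theorem M_sub_N : M.IsSubsystemOf N := by
  intro P φ hφ
  rw [d.normM] at hφ
  obtain ⟨h1, h2, h3, ψ, hψ, h4, h5⟩ := hφ
  rw [d.normN]
  exact ⟨c.pSys_sub 0 P h1, h2, h3, ψ, c.pSys_sub 0 _ hψ, h4, h5⟩

theorem M_sub_G {P : Subgroup Ω} {φ : P →* Ω} (hφ : φ ∈ M.Hom P) : φ ∈ (c.pSys 0).Hom P := by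
  rw [d.normM] at hφ
  exact hφ.1

theorem satN : N.IsSaturated p := isSaturated_normalizerSystem c.pS c.sat d.fn d.normN

theorem satM : M.IsSaturated p :=
  isSaturated_normalizerSystem c.pS c.isSaturated_pSys ⟨d.hXS, fun Q hQ => d.fn.2 Q (c.isConj_of_pSys hQ)⟩ d.normM

theorem hyp_le : M.hyperfocalSubgroup p ≤ normalizerIn T X := by
  haveI := finite_of_le (normalizerIn_le (S := S) X)
  refine hyperfocal_le_of_coprime fun P hP a ha hc x => ⟨?_, ?_⟩
  · have hPS := hP.trans (normalizerIn_le X)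
    have hG := (mem_autGroup hPS).2 (d.M_sub_G ((mem_autGroup hP).1 ha))
    exact (c.mem_bAut_of_coprime hPS (c.autGroup_pSys_le_bSys 0 hPS hG) hc).2.1 x
  · exact mul_mem (Subgroup.inv_mem _ (hP x.2).2) (hP (a x).2).2

/-- The strong closure of `N_T(X)`. -/
theorem closed_TX : N.StronglyClosed (normalizerIn T X) := by
  refine ⟨fun t ht => ⟨c.hTS ht.1, ht.2⟩, fun P hP φ hφ x => ⟨?_, (hom_mem hφ x).2⟩⟩
  rw [d.normN] at hφ
  exact stronglyClosed_apply_mem c.sc hφ.1 (hP x.2).1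

theorem X_le_N : X ≤ normalizerIn S X := le_normalizerIn d.hXS

theorem TX_normalized : X ≤ Subgroup.normalizer ((normalizerIn T X : Subgroup Ω) : Set Ω) :=
  d.X_le_N.trans (stronglyClosed_le_normalizer d.closed_TX)

/-- The strong closure of `N_T(X) X`. -/
theorem closed_TXX : N.StronglyClosed (normalizerIn T X ⊔ X) := by
  refine ⟨sup_le d.closed_TX.1 d.X_le_N, fun P hP φ hφ z => ?_⟩
  have hφ' := hφ
  rw [d.normN] at hφ'
  obtain ⟨-, -, -, ψ, hψ, hψe, hψX⟩ := hφ'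
  have hz : (z : Ω) ∈ ((normalizerIn T X : Subgroup Ω) : Set Ω) * (X : Set Ω) := by
    rw [← Subgroup.coe_mul_of_right_le_normalizer_left _ _ d.TX_normalized]
    exact hP z.2
  obtain ⟨t, ht, x, hx, hzx⟩ := Set.mem_mul.1 hz
  have htm : t ∈ P ⊔ X := by
    rw [show t = (z : Ω) * x⁻¹ by rw [← hzx, mul_inv_cancel_right]]
    exact Subgroup.mul_mem_sup z.2 (X.inv_mem hx)
  have hψx : ψ ⟨x, Subgroup.mem_sup_right hx⟩ ∈ X :=
    hψX.le (mem_map_subgroupOf.2 ⟨x, _, hx, rfl⟩)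
  have e : φ z = ψ ⟨t, htm⟩ * ψ ⟨x, Subgroup.mem_sup_right hx⟩ := by
    rw [← hψe, ← map_mul]
    exact congrArg ψ (Subtype.ext hzx.symm)
  have htn : ψ ⟨t, htm⟩ ∈ Subgroup.normalizer (X : Set Ω) := by
    rw [show ψ ⟨t, htm⟩ = φ z * (ψ ⟨x, Subgroup.mem_sup_right hx⟩)⁻¹ by rw [e, mul_inv_cancel_right]]
    exact mul_mem (hom_mem hφ z).2 (inv_mem (Subgroup.le_normalizer hψx))
  rw [e]
  exact Subgroup.mul_mem_sup ⟨stronglyClosed_apply_mem c.sc hψ ht.1, htn⟩ hψx

/-- Carrying the automorphisms over `(P X) T` by maps of the normalizer. -/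
theorem congr_kap {P P' : Subgroup Ω} {e : P ≃* P'} (he : IsoIn N e) {a : MulAut P}
    {b : MulAut ↥(P ⊔ X)} (hb : b ∈ c.kap (P ⊔ X))
    (hbe : ∀ x : P, (b (Subgroup.inclusion le_sup_left x) : Ω) = (a x : Ω))
    (hbX : ∀ x : ↥(P ⊔ X), (x : Ω) ∈ X → (b x : Ω) ∈ X) : MulAut.congr e a ∈ M.autGroup P' := by
  have hP' : P' ≤ normalizerIn S X := he.le_right
  have he' : P'.subtype.comp e.toMonoidHom ∈ F.normalizerHom X P := d.normN P ▸ he
  obtain ⟨-, hP, -, ψ, hψ, hψe, hψX⟩ := he'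
  have hr : ψ.range = P' ⊔ X := by
    refine le_antisymm ?_ (sup_le (fun y hy => ?_) fun y hy => ?_)
    · rintro _ ⟨x, rfl⟩
      refine hom_mem_of_sup (fun z hz => ?_) (fun z hz => ?_) x
      · rw [show z = Subgroup.inclusion le_sup_left ⟨(z : Ω), hz⟩ from rfl, hψe]
        exact Subgroup.mem_sup_left (e _).2
      · exact Subgroup.mem_sup_right (hψX.le (mem_map_subgroupOf.2 ⟨(z : Ω), z.2, hz, rfl⟩))
    · exact ⟨Subgroup.inclusion le_sup_left (e.symm ⟨y, hy⟩), by simp [hψe]⟩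
    · obtain ⟨x, hx, -, he⟩ := mem_map_subgroupOf.1 (hψX.ge hy)
      exact ⟨_, he⟩
  set f := homIso hψ hr with hfdef
  have hk := c.kap_congr (isoIn_homIso hψ hr : IsoIn F f) hb
  have hPX : P' ⊔ X ≤ S := sup_le (hP'.trans (normalizerIn_le X)) d.hXS
  have hG := c.kap_le_pSys hPX hk
  have hf : ∀ x : P, f (Subgroup.inclusion le_sup_left x) = Subgroup.inclusion le_sup_left (e x) :=
    fun x => Subtype.ext (hψe x)
  have hres : ∀ y : P', (MulAut.congr f b (Subgroup.inclusion le_sup_left y) : Ω) =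
      (MulAut.congr e a y : Ω) := by
    intro y
    obtain ⟨x, rfl⟩ := e.surjective y
    show (f (b (f.symm (Subgroup.inclusion le_sup_left (e x)))) : Ω) = (e (a (e.symm (e x))) : Ω)
    rw [← hf, MulEquiv.symm_apply_apply, MulEquiv.symm_apply_apply,
      show b (Subgroup.inclusion le_sup_left x) = Subgroup.inclusion le_sup_left (a x) from Subtype.ext (hbe x),
      hf]
    rfl
  have hX' : ∀ y : ↥(P' ⊔ X), (y : Ω) ∈ X → (MulAut.congr f b y : Ω) ∈ X := by
    intro y hy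
    obtain ⟨x, hx, hxX, hxe⟩ := mem_map_subgroupOf.1 (hψX.ge hy)
    rw [show y = f ⟨x, hx⟩ from Subtype.ext hxe.symm]
    show (f (b (f.symm (f ⟨x, hx⟩))) : Ω) ∈ X
    rw [MulEquiv.symm_apply_apply]
    exact hψX.le (mem_map_subgroupOf.2 ⟨_, (b ⟨x, hx⟩).2, hbX _ hxX, rfl⟩)
  have hG' := (mem_autGroup hPX).1 hG
  refine (mem_autGroup hP').2 ?_
  show P'.subtype.comp (MulAut.congr e a).toMonoidHom ∈ M.Hom P'
  rw [d.normM]
  refine ⟨hom_congr (restrict_mem hG' le_sup_left) fun y => (hres y).symm, hP',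
    fun y => hP' (MulAut.congr e a y).2, _, hG', hres, ?_⟩
  have hrX : (((P' ⊔ X).subtype.comp (MulAut.congr f b).toMonoidHom).comp
      (Subgroup.inclusion (le_sup_right : X ≤ P' ⊔ X))).range = X :=
    range_eq_of_card_le (restrict_mem hG' _) d.hXS (fun x => hX' _ x.2) le_rfl
  ext y
  rw [mem_map_subgroupOf]
  constructor
  · rintro ⟨x, hx, hxX, rfl⟩
    exact hX' ⟨x, hx⟩ hxX
  · intro hy
    obtain ⟨x, hx⟩ := hrX.ge hy
    exact ⟨x, Subgroup.mem_sup_right x.2, x.2, hx⟩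

/-- The automorphisms of order prime to `p` of the normalizer in the product are carried by the normalizer. -/
theorem congr_coprime {P P' : Subgroup Ω} {e : P ≃* P'} (he : IsoIn N e) {a : MulAut P}
    (ha : a ∈ M.autGroup P) (hc : (orderOf a).Coprime p) : MulAut.congr e a ∈ M.autGroup P' := by
  have hP : P ≤ normalizerIn S X := he.le_left
  have ha' : P.subtype.comp a.toMonoidHom ∈ (c.pSys 0).normalizerHom X P := d.normM P ▸ (mem_autGroup hP).1 ha
  obtain ⟨-, -, -, ψ, hψ, hψe, hψX⟩ := ha'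
  have hV : P ⊔ X ≤ S := sup_le (hP.trans (normalizerIn_le X)) d.hXS
  have hψx : ∀ z : ↥(P ⊔ X), (z : Ω) ∈ X → ψ z ∈ X := fun z hz =>
    hψX.le (mem_map_subgroupOf.2 ⟨(z : Ω), z.2, hz, rfl⟩)
  obtain ⟨Ψ, hΨ, hΨe⟩ := exists_aut_of_hom hψ (hom_mem_of_sup (fun z hz => by
      rw [show z = Subgroup.inclusion le_sup_left ⟨(z : Ω), hz⟩ from rfl, hψe]
      exact Subgroup.mem_sup_left (a _).2) fun z hz => Subgroup.mem_sup_right (hψx z hz))
  obtain ⟨θ, hθ, v, hv, hθv, hθe, j, hj⟩ := exists_pPrime_extension (le_sup_left : P ≤ P ⊔ X) hV hc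
    (pow_orderOf_eq_one a) hΨ fun x => (hΨe _).trans (hψe x)
  refine d.congr_kap he (c.kap_of_coprime hθ (coprime_of_pow_eq_one hv hθv)) hθe ?_
  subst hj
  clear hθe hθv hθ
  induction j with
  | zero => intro x hx; simpa using hx
  | succ j ih =>
    intro x hx
    rw [pow_succ', MulAut.mul_apply, hΨe]
    exact hψx _ (ih x hx)

/-- The conjugations by `N_T(X) X` are carried by the normalizer. -/
theorem congr_induced {P P' : Subgroup Ω} {e : P ≃* P'} (he : IsoIn N e) {t : Ω}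
    (ht : t ∈ normalizerIn T X ⊔ X) (htn : t ∈ Subgroup.normalizer (P : Set Ω)) :
    MulAut.congr e (conjAut P htn) ∈ M.autGroup P' := by
  have hV : P ⊔ X ≤ S := sup_le (he.le_left.trans (normalizerIn_le X)) d.hXS
  have htX : t ∈ Subgroup.normalizer (X : Set Ω) := (sup_le inf_le_right Subgroup.le_normalizer :
    normalizerIn T X ⊔ X ≤ Subgroup.normalizer (X : Set Ω)) ht
  have htV : t ∈ Subgroup.normalizer ((P ⊔ X : Subgroup Ω) : Set Ω) := by
    haveI := finite_of_le hV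
    refine Subgroup.mem_normalizer_fintype fun z hz => ?_
    have hle : P ⊔ X ≤ (P ⊔ X).comap (MulAut.conj t).toMonoidHom := sup_le
      (fun y hy => Subgroup.mem_sup_left ((Subgroup.mem_normalizer_iff.1 htn y).1 hy))
      fun y hy => Subgroup.mem_sup_right ((Subgroup.mem_normalizer_iff.1 htX y).1 hy)
    exact hle hz
  refine d.congr_kap he (c.kap_of_conj (conjAut_mem_autInducedBy htV ?_)) (fun x => rfl)
    fun x hx => (Subgroup.mem_normalizer_iff.1 htX x).1 hx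
  exact (sup_le (inf_le_left.trans le_sup_right) (le_sup_right.trans le_sup_left) :
    normalizerIn T X ⊔ X ≤ (P ⊔ X) ⊔ T) ht

variable {W : Subgroup Ω} {D : FusionSystem W}

/-- Transport of the subsystem. -/
theorem transport_sub (hWs : N.StronglyClosed W) (hD : D.IsSaturated p) (hidx : D.HasPPowerIndexIn M p) :
    D ≤ twistCore (fullOn N W hWs.1) D := by
  have hN := c.pS.to_le (normalizerIn_le (S := S) X)
  haveI := finite_of_le (normalizerIn_le (S := S) X)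
  haveI := finite_of_le hWs.1
  refine le_of_autGroup_le (hN.to_le hWs.1) hD _ fun P hP => ?_
  have hPW : P ≤ W := hP.elim (fun e => e.le) fun e => e.1.1
  haveI := finite_mulAut_of_le hPW
  have hfn : D.IsFullyNormalized P := hP.elim (fun e => e ▸ isFullyNormalized_top D) fun e => e.2.1
  obtain ⟨-, R, hR⟩ := (isFullyAutomized_and_fc_of_fn (hN.to_le hWs.1) hD hfn).2
  refine le_of_sylow_of_coprime R (le_of_eq_of_le
    (by rw [hR, Subgroup.map_subgroupOf_eq_of_le (autInducedBy_le_autGroup hPW)])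
    (autInducedBy_le_autGroup hPW)) fun a ha hc => ?_
  have haD := (mem_autGroup hPW).1 ha
  refine (mem_autGroup hPW).2 ⟨⟨d.M_sub_N P (hidx.1 P haD), hPW, fun x => hPW (a x).2⟩, fun β hβ => ?_⟩
  have hb := restrict_mem ((mem_autGroup hWs.1).1 (mem_of_fullOn_aut hWs.1 hβ)) hPW
  have hr := range_restrict_aut hPW β
  have h2 := d.congr_coprime (isoIn_homIso hb hr : IsoIn N (homIso hb hr))
    ((mem_autGroup (hPW.trans hWs.1)).2 (hidx.1 P haD)) hc
  have hc' : (orderOf (MulAut.congr (homIso hb hr) a)).Coprime p := by rwa [MulEquiv.orderOf_eq]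
  have h3 := (mem_autGroup (autImage_le β P)).1 (hidx.2.2 _ (autImage_le β P)
    ⟨⟨_, h2⟩, Cfsg.Lib.Fusion.mem_pResidual_of_coprime (by rwa [← Subgroup.orderOf_coe]), rfl⟩)
  refine ⟨_, h3, fun x hx => ?_⟩
  rw [show (⟨_, hx⟩ : autImage β P) = homIso hb hr x from Subtype.ext rfl]
  show ((homIso hb hr (a ((homIso hb hr).symm (homIso hb hr x))) : autImage β P) : Ω) = _
  rw [MulEquiv.symm_apply_apply]
  rfl

theorem transport (hWs : N.StronglyClosed W) (hD : D.IsSaturated p) (hidx : D.HasPPowerIndexIn M p)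
    {P : Subgroup Ω} (hPW : P ≤ W) {φ : P →* Ω} (hφ : φ ∈ D.Hom P) {α : MulAut W} (hα : α ∈ N.autGroup W) :
    ∃ χ ∈ D.Hom (autImage α P), ∀ (x : P) (hx : ((α ⟨x, hPW x.2⟩ : W) : Ω) ∈ autImage α P),
      χ ⟨_, hx⟩ = ((α ⟨φ x, hom_mem hφ x⟩ : W) : Ω) := by
  haveI := finite_of_le (normalizerIn_le (S := S) X)
  obtain ⟨χ, hχ, hχe⟩ :=
    twistCore_invariant (fullOn_aut_of_mem hWs.1 hα) (d.transport_sub hWs hD hidx P hφ)
  exact ⟨χ, twistCore_le_right _ hχ, fun x hx => hχe x hx⟩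

theorem normalIn_M (hWs : N.StronglyClosed W) (hTW : normalizerIn T X ≤ W) (hD : D.IsSaturated p)
    (hidx : D.HasPPowerIndexIn M p) : D.IsNormalIn M p := by
  haveI := finite_of_le (normalizerIn_le (S := S) X)
  exact isNormalIn_of_pPower (c.pS.to_le (normalizerIn_le X)) d.satM
    (Subgroup.normal_subgroupOf_of_le_normalizer (stronglyClosed_le_normalizer hWs)) (d.hyp_le.trans hTW)
    hWs.1 hD hidx

/-- The step at a fully normalized subgroup. -/
theorem frattini_step (hWs : N.StronglyClosed W) (hTW : normalizerIn T X ≤ W)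
    (hWX : W ≤ normalizerIn T X ⊔ X) (hD : D.IsSaturated p) (hidx : D.HasPPowerIndexIn M p)
    {Q : Subgroup Ω} (hQ : N.IsFullyNormalized Q) (hlt : Q < W)
    (hIH : ∀ R : Subgroup Ω, R ≤ W → Nat.card Q < Nat.card R → ∀ φ ∈ N.Hom R,
      ∃ α ∈ N.autGroup W, ∃ φ₀ ∈ D.Hom R, ∀ (x : R) (hx : φ₀ x ∈ W), φ x = ((α ⟨φ₀ x, hx⟩ : W) : Ω))
    {β : MulAut Q} (hβ : β ∈ N.autGroup Q) : ∃ α ∈ N.autGroup W, ∃ φ₀ ∈ D.Hom Q,
      ∀ (x : Q) (hx : φ₀ x ∈ W), ((β x : Q) : Ω) = ((α ⟨φ₀ x, hx⟩ : W) : Ω) := by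
  haveI := finite_of_le (normalizerIn_le (S := S) X)
  have hSN := c.pS.to_le (normalizerIn_le (S := S) X)
  haveI := finite_of_le hWs.1
  have hQW : Q ≤ W := hlt.le
  have hQN := hQ.1
  haveI := finite_of_le hQN
  haveI := finite_mulAut_of_le hQN
  have hβI := (mem_autGroup hQN).1 hβ
  have hQM : M.IsFullyNormalized Q := ⟨hQN, fun R hR => hQ.2 R (by
    obtain ⟨φ, hφ, hr⟩ := hR
    exact ⟨φ, d.M_sub_N Q hφ, hr⟩)⟩
  obtain ⟨-, -, Rm, hRm⟩ := isFullyAutomized_and_fc_of_fn hSN d.satM hQM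
  let Y : Subgroup (MulAut Q) := (autInducedBy W Q).map (MulAut.congr β).toMonoidHom
  have hYM : Y ≤ M.autGroup Q := by
    rintro _ ⟨y, hy, rfl⟩
    obtain ⟨t, ht, hte⟩ := mem_autInducedBy.1 hy
    have htn := mem_normalizer_of_aut hte
    rw [show y = conjAut Q htn from MulEquiv.ext fun x => Subtype.ext (hte x)]
    exact d.congr_induced hβI (hWX ht) htn
  have hYp : IsPGroup p (Y.subgroupOf (M.autGroup Q)) :=
    ((isPGroup_autInducedBy (hSN.to_le hWs.1)).map _).comap_subtype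
  obtain ⟨R', hR'⟩ := hYp.exists_le_sylow
  obtain ⟨m, hm⟩ := MulAction.exists_smul_eq (M.autGroup Q) R' Rm
  set a : MulAut Q := (m : MulAut Q) * β with hadef
  have hmN : (m : MulAut Q) ∈ N.autGroup Q :=
    (mem_autGroup hQN).2 (d.M_sub_N Q ((mem_autGroup hQN).1 m.2))
  have ha : a ∈ N.autGroup Q := mul_mem hmN hβ
  obtain ⟨hfc, -⟩ := isFullyAutomized_and_fc_of_fn hSN d.satN hQ
  have hrange : (Q.subtype.comp a.toMonoidHom).range = Q := by
    ext y
    exact ⟨fun ⟨x, e⟩ => e ▸ (a x).2, fun hy => ⟨a⁻¹ ⟨y, hy⟩, by simp⟩⟩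
  obtain ⟨ψ, hψ, hψe⟩ := (isReceptive_of_fc hSN d.satN hfc).2 Q _ ((mem_autGroup hQN).1 ha) hrange
  have hM : normalizerIn W Q ≤ extender (normalizerIn S X) Q (Q.subtype.comp a.toMonoidHom) := fun t ht => by
    have hy : MulAut.congr β (conjAut Q ht.2) ∈ Y := ⟨_, conjAut_mem_autInducedBy ht.2 ht.1, rfl⟩
    let y : M.autGroup Q := ⟨_, hYM hy⟩
    have hy2 : m * y * m⁻¹ ∈ (Rm : Subgroup (M.autGroup Q)) := by
      rw [← hm, Sylow.coe_subgroup_smul]
      exact Subgroup.smul_mem_pointwise_smul y (MulAut.conj m) _ (hR' (show y ∈ Y.subgroupOf _ from hy))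
    rw [hRm, Subgroup.mem_subgroupOf] at hy2
    obtain ⟨s, hs, hse⟩ := mem_autInducedBy.1 hy2
    refine mem_extender_of (hWs.1 ht.1) ht.2 hs fun x hx => ?_
    show ((a _ : Q) : Ω) = s * ((a x : Q) : Ω) * s⁻¹
    rw [← hse (a x)]
    simp [a, y, MulAut.congr, MulAut.mul_apply, MulAut.inv_apply]
    rfl
  haveI := finite_of_le ((normalizerIn_le (S := W) Q).trans hWs.1)
  obtain ⟨α₂, hα₂, φ₂, hφ₂, he₂⟩ := hIH _ (normalizerIn_le Q)
    (Set.Finite.card_lt_card (Set.toFinite _) (lt_normalizerIn (hSN.to_le hWs.1) hlt)) _ (restrict_mem hψ hM)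
  have hQN' : Q ≤ normalizerIn W Q := le_normalizerIn hQW
  obtain ⟨αM, hαM, dd, hdd, hde⟩ := (d.normalIn_M hWs hTW hD hidx).1.2.2.2.2.2 Q hQW _
    ((mem_autGroup hQN).1 (inv_mem m.2) : Q.subtype.comp ((m : MulAut Q)⁻¹).toMonoidHom ∈ M.Hom Q)
  have hαMN : αM ∈ N.autGroup W := (mem_autGroup hWs.1).2 (d.M_sub_N W ((mem_autGroup hWs.1).1 hαM))
  obtain ⟨χ, hχ, hχe⟩ := d.transport hWs hD hidx hQW hdd ((N.autGroup W).inv_mem hα₂)
  have hval : ∀ x : Q, ((α₂⁻¹ ⟨(a x : Ω), hQW (a x).2⟩ : W) : Ω) = φ₂ (Subgroup.inclusion hQN' x) := fun x => by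
    have h := (hψe _ x.2 (hM (hQN' x.2))).symm.trans (he₂ (Subgroup.inclusion hQN' x) (hom_mem hφ₂ _))
    rw [show (⟨(a x : Ω), hQW (a x).2⟩ : W) = α₂ ⟨φ₂ (Subgroup.inclusion hQN' x), hom_mem hφ₂ _⟩ from
      Subtype.ext h, MulAut.inv_apply_self]
  have hm1 : ∀ x : Q, φ₂ (Subgroup.inclusion hQN' x) ∈ autImage α₂⁻¹ Q := fun x =>
    ⟨⟨(a x : Ω), hQW (a x).2⟩, (a x).2, hval x⟩
  refine ⟨αM * α₂, mul_mem hαMN hα₂, _, D.comp_mem (restrict_mem hφ₂ hQN') hχ hm1, fun x hx => ?_⟩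
  have h1 : (β x : Ω) = ((αM ⟨dd (a x), hom_mem hdd _⟩ : W) : Ω) := by
    rw [← hde]
    simp [a]
  rw [h1, MulAut.mul_apply]
  refine congrArg (fun z => ((αM z : W) : Ω)) ?_
  have h2 := hχe (a x) (by rw [hval]; exact hm1 x)
  have h3 : (⟨((χ.comp ((φ₂.comp (Subgroup.inclusion hQN')).codRestrict _ hm1)) x), hx⟩ : W) =
      α₂⁻¹ ⟨dd (a x), hom_mem hdd _⟩ := Subtype.ext ((congrArg χ (Subtype.ext (hval x).symm)).trans h2)
  rw [h3]
  exact ((α₂.apply_symm_apply _)).symm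

/-- The subsystem is normal in the normalizer. -/
theorem isNormalIn (hWs : N.StronglyClosed W) (hTW : normalizerIn T X ≤ W)
    (hWX : W ≤ normalizerIn T X ⊔ X) (hD : D.IsSaturated p) (hidx : D.HasPPowerIndexIn M p) :
    D.IsNormalIn N p := by
  haveI := finite_of_le (normalizerIn_le (S := S) X)
  have hSN := c.pS.to_le (normalizerIn_le (S := S) X)
  have hinv : D.IsInvariantIn N := by
    refine ⟨fun P φ hφ => d.M_sub_N P (hidx.1 P hφ), hWs, fun P hP φ hφ α hα => ?_, fun P hP φ hφ => ?_⟩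
    · obtain ⟨χ, hχ, hχe⟩ := d.transport hWs hD hidx hP hφ hα
      exact ⟨χ, hχ, fun x _ hx => hχe x hx⟩
    · exact frattini_of_aut hSN d.satN hWs (fun hPT φ hφ α hα => d.transport hWs hD hidx hPT hφ hα)
        (fun Q hQ hlt hIH β hβ => d.frattini_step hWs hTW hWX hD hidx hQ hlt hIH hβ) _ P hP
        (Nat.le_add_left _ _) φ hφ
  refine isNormalIn_of_ext hSN ⟨hD, d.satN, hinv⟩ fun α hα hc => ?_
  have hWM : M.StronglyClosed W := stronglyClosed_of_subsystem d.M_sub_N hWs hWs.1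
  haveI := finite_of_le hWs.1
  have hαM : α ∈ M.autGroup W := (mem_autGroup hWs.1).2 (hidx.1 W ((mem_autGroup le_rfl).1 hα))
  obtain ⟨hfc, -⟩ := isFullyAutomized_and_fc_of_fn hSN d.satM
    (isFullyNormalized_of_fixed hWs.1 fun φ hφ x => hWM.2 W le_rfl φ hφ x)
  have hrange : (W.subtype.comp α.toMonoidHom).range = W := by
    ext y
    exact ⟨fun ⟨x, e⟩ => e ▸ (α x).2, fun hy => ⟨α⁻¹ ⟨y, hy⟩, by simp⟩⟩
  obtain ⟨ψ, hψ, hψe⟩ := (isReceptive_of_fc hSN d.satM hfc).2 W _ ((mem_autGroup hWs.1).1 hαM) hrange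
  have hle : W ⊔ centralizerIn (normalizerIn S X) W ≤
      extender (normalizerIn S X) W (W.subtype.comp α.toMonoidHom) :=
    sup_le (le_extender hWs.1 fun x => hWs.1 (α x).2) (centralizerIn_le_extender _)
  have hψV := restrict_mem hψ hle
  obtain ⟨Ψ, hΨ, hΨe⟩ := exists_aut_of_hom hψV
    (ProdCtx.fixed_sup_centralizer hWs.1 (fun φ hφ x => hWM.2 W le_rfl φ hφ x) hψV)
  have hV : W ⊔ centralizerIn (normalizerIn S X) W ≤ normalizerIn S X :=
    sup_le hWs.1 (centralizerIn_le W)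
  obtain ⟨θ, hθ, v, hv, hθv, hθe, -⟩ := exists_pPrime_extension (le_sup_left : W ≤ _) hV hc
    (pow_orderOf_eq_one α) hΨ fun x => (hΨe _).trans (hψe x x.2 _)
  refine ⟨θ, (mem_autGroup hV).2 (d.M_sub_N _ ((mem_autGroup hV).1 hθ)), hθe, fun z hz => ?_⟩
  refine ⟨hTW (d.hyp_le (mem_hyperfocal_of_coprime hV hθ (coprime_of_pow_eq_one hv hθv) z)), ?_⟩
  have hθz : (θ z : Ω) ∈ centralizerIn (normalizerIn S X) W :=
    ProdCtx.apply_mem_centralizerIn (φ := (W ⊔ centralizerIn (normalizerIn S X) W).subtype.comp θ.toMonoidHom)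
      (hAV := le_sup_left)
      (range_eq_of_card_le (restrict_mem ((mem_autGroup hV).1 hθ) _) hWs.1
        (fun y => stronglyClosed_aut_mem hWM hθ hV y.2) le_rfl) (hV (θ z).2) (mem_centralizerIn.1 hz).2
  exact mul_mem (Subgroup.inv_mem _ hz.2) hθz.2

/-- Inside `T` the subsystem is in `E`. -/
theorem isSubsystemOf_E (hWT : W ≤ T) (hD : D.IsSaturated p) (hidx : D.HasPPowerIndexIn M p) :
    D.IsSubsystemOf E := by
  haveI := finite_of_le c.hTS
  haveI := finite_of_le hWT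
  have hTp := c.pS.to_le c.hTS
  have key : D ≤ fullOn E W hWT := by
    refine le_of_autGroup_le (hTp.to_le hWT) hD _ fun P hP => ?_
    have hPW : P ≤ W := hP.elim (fun e => e.le) fun e => e.1.1
    haveI := finite_mulAut_of_le hPW
    have hfn : D.IsFullyNormalized P := hP.elim (fun e => e ▸ isFullyNormalized_top D) fun e => e.2.1
    obtain ⟨-, R, hR⟩ := (isFullyAutomized_and_fc_of_fn (hTp.to_le hWT) hD hfn).2
    refine le_of_sylow_of_coprime R (le_of_eq_of_le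
      (by rw [hR, Subgroup.map_subgroupOf_eq_of_le (autInducedBy_le_autGroup hPW)])
      (autInducedBy_le_autGroup hPW)) fun a ha hc => ?_
    have hPT := hPW.trans hWT
    have hG : a ∈ (c.pSys 0).autGroup P :=
      (mem_autGroup (hPT.trans c.hTS)).2 (d.M_sub_G (hidx.1 P ((mem_autGroup hPW).1 ha)))
    exact (mem_autGroup hPW).2 ⟨(mem_autGroup hPT).1
      (c.mem_autE_of_coprime hPT (c.autGroup_pSys_le_bSys 0 (hPT.trans c.hTS) hG) hc), hPW, fun x => hPW (a x).2⟩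
  exact fun P φ hφ => (key P hφ).1

end NormCtx

end Cfsg.Lib.FusionSys
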