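import Cfsg.Agent.Lib.FusionSys.ProductER.Unique
import Cfsg.Agent.Lib.FusionSys.PPowerIsNormal
import Cfsg.Agent.Lib.FusionSys.Transport

/-!
The subsystems of `p`-power index of the product system over the subgroups containing `T`: monotonicity,
transport along maps of the system, decomposition of maps.
-/

set_option autoImplicit false
set_option linter.style.haveILetI false

namespace Cfsg.Lib.FusionSys

open Cfsg Cfsg.FusionSystem
open scoped Pointwise

variable {Ω : Type*} [Group Ω] {S T R R' : Subgroup Ω} {F : FusionSystem S} {E : FusionSystem T} {p : ℕ}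

namespace ProdCtx

variable (c : ProdCtx F E p)
include c

/-- The saturated subsystems of `p`-power index of the product system. -/
def IsOver (D : FusionSystem R) : Prop := D.IsSaturated p ∧ D.HasPPowerIndexIn (c.pSys 0) p

variable [Finite S] [Fact p.Prime] {D : FusionSystem R} {D' : FusionSystem R'}

theorem exists_over (hTR : T ≤ R) (hRS : R ≤ S) : ∃ D : FusionSystem R, c.IsOver D := by
  obtain ⟨D, hD, -⟩ := existsUnique_pPower c.pS c.isSaturated_pSys R hRS (c.hyperfocal_pSys_le.trans hTR)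
  exact ⟨D, hD⟩

theorem over_mono (hD : c.IsOver D) (hD' : c.IsOver D') (h : R ≤ R') : D.IsSubsystemOf D' :=
  subsystem_le_of_pPower c.pS hD.1 hD.2.1 h hD'.2

theorem over_sub (hD : c.IsOver D) : D.IsSubsystemOf F := fun P _ h => c.pSys_sub 0 P (hD.2.1 P h)

theorem over_emap (hD : c.IsOver D) (hTR : T ≤ R) : E.IsSubsystemOf D :=
  subsystem_le_of_pPower c.pS c.satE (fun _ _ h => c.emap_mem_pSys h) hTR hD.2

theorem over_le (hD : c.IsOver D) : R ≤ S := hom_le (hD.2.1 R (subtype_mem D le_rfl))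

/-- The automorphisms of order prime to `p` are those of the product system. -/
theorem over_mem (hD : c.IsOver D) {P : Subgroup Ω} (hP : P ≤ R) {a : MulAut P}
    (ha : a ∈ (c.pSys 0).autGroup P) (hc : (orderOf a).Coprime p) : a ∈ D.autGroup P :=
  hD.2.2.2 P hP ⟨⟨a, ha⟩, Cfsg.Lib.Fusion.mem_pResidual_of_coprime
    (by rw [← Subgroup.orderOf_coe]; exact hc), rfl⟩

theorem over_bAut (hD : c.IsOver D) {P : Subgroup Ω} (hP : P ≤ R) {a : MulAut P} (ha : a ∈ D.autGroup P)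
    (hc : (orderOf a).Coprime p) : a ∈ bAut F E P :=
  c.mem_bAut_of_coprime (hP.trans (c.over_le hD))
    ((mem_autGroup (hP.trans (c.over_le hD))).2 (c.pSys_sub_bSys 0 P (hD.2.1 P ((mem_autGroup hP).1 ha)))) hc

theorem over_hyp (hD : c.IsOver D) : D.hyperfocalSubgroup p ≤ T := by
  haveI := finite_of_le (c.over_le hD)
  exact hyperfocal_le_of_coprime fun P hP a ha hc x => (c.over_bAut hD hP ha hc).2.1 x

/-- The members of the domains of the automizers that matter. -/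
theorem over_inH (hD : c.IsOver D) (hTR : T ≤ R) {P : Subgroup Ω} (hP : P = R ∨ D.IsEssential p P) :
    InH F T P := by
  rcases hP with rfl | hP
  · exact c.inH_of_le c.uCentric_self hTR (c.over_le hD)
  · exact ⟨hP.1.1.trans (c.over_le hD), c.uCentric_of_essential hTR (c.over_le hD) hD.1 (c.over_sub hD)
      (c.over_hyp hD) (c.over_emap hD hTR) hP⟩

/-- Transport along a map of the system. -/
theorem over_transport (hD : c.IsOver D) (hD' : c.IsOver D') (hTR : T ≤ R) {e : R ≃* R'} (he : IsoIn F e)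
    {P P' : Subgroup Ω} {f : P ≃* P'} (hPR : P ≤ R)
    (hfe : ∀ x : P, ((f x : P') : Ω) = (e (Subgroup.inclusion hPR x) : Ω)) {a : MulAut P}
    (ha : a ∈ D.autGroup P) : MulAut.congr f a ∈ D'.autGroup P' := by
  have hRS := c.over_le hD
  haveI := finite_of_le hRS
  set i := SIso.ofEquiv e with hi
  have hie : ∀ {x : Ω} (hx : x ∈ R), i.toFun x = (e ⟨x, hx⟩ : Ω) := fun {x} hx => SIso.ofEquiv_apply e ⟨x, hx⟩
  have himg : i.img R = R' := i.img_top
  let Y : FusionSystem R :=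
    { Hom := fun Q => {φ | φ ∈ D.Hom Q ∧ ∃ ψ ∈ D'.Hom (i.img Q), i.Rel φ ψ}
      le_of_mem := fun h => D.le_of_mem h.1
      injective_of_mem := fun h => D.injective_of_mem h.1
      conj_mem := fun {Q g} hQ hg => ⟨D.conj_mem hQ hg, _, D'.conj_mem (i.img_le Q) (i.map_mem g hg),
        fun x hx hx' => by
          show i.toFun g * i.toFun x * (i.toFun g)⁻¹ = i.toFun (g * x * g⁻¹)
          rw [i.map_mul _ (R.mul_mem hg (hQ hx)) _ (R.inv_mem hg), i.map_mul g hg x (hQ hx), i.map_inv hg]⟩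
      comp_mem := by
        rintro Q Q₁ φ φ₁ ⟨hφ, ψ, hψ, hr⟩ ⟨hφ₁, ψ₁, hψ₁, hr₁⟩ h
        have hv : ∀ y, ψ y ∈ i.img Q₁ := by
          rintro ⟨y, hy⟩
          obtain ⟨x, hx, -, rfl⟩ := i.mem_img.1 hy
          rw [hr x hx hy]
          exact i.apply_mem_img (hom_le hφ₁) (h _)
        refine ⟨D.comp_mem hφ hφ₁ h, _, D'.comp_mem hψ hψ₁ hv, fun x hx hx' => ?_⟩
        show ψ₁ ⟨ψ ⟨i.toFun x, hx'⟩, _⟩ = i.toFun (φ₁ ⟨φ ⟨x, hx⟩, _⟩)
        rw [← hr₁ (φ ⟨x, hx⟩) (h _) (i.apply_mem_img (hom_le hφ₁) (h _))]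
        exact congrArg ψ₁ (Subtype.ext (hr x hx hx'))
      inv_mem := by
        rintro Q φ ⟨hφ, ψ, hψ, hr⟩
        obtain ⟨ρ, hρ, hρe⟩ := D.inv_mem hφ
        obtain ⟨σ, hσ, -, hσe⟩ := exists_inv hψ (SIso.Rel.range i (hom_le hφ) (hom_mem hφ) hr)
        refine ⟨ρ, ⟨hρ, σ, hσ, ?_⟩, hρe⟩
        rintro x ⟨q, rfl⟩ hx'
        rw [hρe]
        have hq := i.apply_mem_img (hom_le hφ) q.2
        have hy : ψ ⟨i.toFun (q : Ω), hq⟩ ∈ i.img φ.range := by rw [hr q q.2 hq]; exact hx'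
        rw [show (⟨i.toFun (φ q), hx'⟩ : i.img φ.range) = ⟨ψ ⟨i.toFun (q : Ω), hq⟩, hy⟩ from
          Subtype.ext (hr q q.2 hq).symm]
        exact hσe _ hy }
  have hle : D ≤ Y := by
    refine le_of_autGroup_le (c.pS.to_le hRS) hD.1 Y fun Q hQ => ?_
    have hQR : Q ≤ R := hQ.elim (fun e => e.le) fun e => e.1.1
    have hH := c.over_inH hD hTR hQ
    have hfn : D.IsFullyNormalized Q := hQ.elim (fun e => e ▸ isFullyNormalized_top D) fun e => e.2.1
    haveI := finite_mulAut_of_le hQR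
    obtain ⟨-, Rs, hRs⟩ := (isFullyAutomized_and_fc_of_fn (c.pS.to_le hRS) hD.1 hfn).2
    refine le_of_sylow_of_coprime Rs (le_of_eq_of_le
      (by rw [hRs, Subgroup.map_subgroupOf_eq_of_le (autInducedBy_le_autGroup hQR)])
      (autInducedBy_le_autGroup hQR)) fun b hb hc => ?_
    have himgR : i.img Q ≤ R' := i.img_le Q
    have hf : IsoIn F (i.imgEquiv hQR) :=
      hom_congr (restrict_mem he hQR) fun x => hie (hQR x.2)
    have hb' := c.bAut_congr hf (c.over_bAut hD hQR hb hc)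
    have hc' : (orderOf (MulAut.congr (i.imgEquiv hQR) b)).Coprime p := by rwa [MulEquiv.orderOf_eq]
    have hb'' := c.over_mem hD' himgR
      (c.aGenP_le_pSys (c.inH_of_iso hf hH) (Subgroup.subset_closure ⟨hb', hc'⟩)) hc'
    exact (mem_autGroup hQR).2 ⟨(mem_autGroup hQR).1 hb, _, (mem_autGroup himgR).1 hb'',
      fun x hx hx' => SIso.congr_apply hQR b ⟨x, hx⟩ hx'⟩
  obtain ⟨-, ψ, hψ, hr⟩ := hle P ((mem_autGroup hPR).1 ha)
  obtain rfl : i.img P = P' := by
    ext y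
    rw [i.mem_img]
    constructor
    · rintro ⟨x, hx, hxR, rfl⟩
      rw [hie hxR, show (⟨x, hxR⟩ : R) = Subgroup.inclusion hPR ⟨x, hx⟩ from rfl, ← hfe ⟨x, hx⟩]
      exact (f _).2
    · intro hy
      refine ⟨_, (f.symm ⟨y, hy⟩).2, hPR (f.symm ⟨y, hy⟩).2, ?_⟩
      rw [hie (hPR (f.symm ⟨y, hy⟩).2)]
      exact (hfe _).symm.trans (congrArg Subtype.val (f.apply_symm_apply ⟨y, hy⟩))
  refine (mem_autGroup (i.img_le P)).2 (hom_congr hψ fun y => ?_)
  obtain ⟨x, rfl⟩ := f.surjective y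
  have hx : ((f x : i.img P) : Ω) = i.toFun (x : Ω) := (hfe x).trans (hie (hPR x.2)).symm
  show ((f (a (f.symm (f x))) : i.img P) : Ω) = ψ (f x)
  rw [MulEquiv.symm_apply_apply, hfe, show f x = ⟨i.toFun (x : Ω), hx ▸ (f x).2⟩ from Subtype.ext hx,
    hr x x.2 _]
  exact (hie (hPR (a x).2)).symm

/-- The step of the decomposition at a normalized subgroup. -/
theorem over_decompose_step (hD : c.IsOver D) (hD' : c.IsOver D') (hTR : T ≤ R) (hle : R ≤ R')
    (hn : R' ≤ Subgroup.normalizer (R : Set Ω)) {P : Subgroup Ω} {φ : P →* Ω} (hφ : φ ∈ D'.Hom P)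
    (hP : P ≤ R) : ∃ r ∈ R', ∃ d ∈ D.Hom P, ∀ x : P, φ x = r * d x * r⁻¹ := by
  have hR'S := c.over_le hD'
  haveI := finite_of_le hR'S
  have hR' := c.pS.to_le hR'S
  haveI := finite_of_le hle
  haveI := finite_mulAut_of_le hle
  have hidx : D.HasPPowerIndexIn D' p := by
    refine ⟨c.over_mono hD hD' hle, (c.over_hyp hD').trans hTR, fun Q hQ => ?_⟩
    rintro _ ⟨b, hb, rfl⟩
    induction hb using Subgroup.closure_induction with
    | mem b hb => exact c.over_mem hD hQ ((mem_autGroup (hQ.trans (c.over_le hD))).2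
        (hD'.2.1 Q ((mem_autGroup (hQ.trans hle)).1 b.2))) (by
          show (orderOf (b : MulAut Q)).Coprime p
          rw [Subgroup.orderOf_coe]
          exact hb)
    | one => exact one_mem _
    | mul a b _ _ ha hb => exact mul_mem ha hb
    | inv a _ ha => exact inv_mem ha
  have hnorm := isNormalIn_of_pPower hR' hD'.1 (Subgroup.normal_subgroupOf_of_le_normalizer hn)
    ((c.over_hyp hD').trans hTR) hle hD.1 hidx
  have hinv := hnorm.1.2.2
  obtain ⟨α, hα, φ₀, hφ₀, hee⟩ := hinv.2.2.2 P hP φ hφ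
  let M : Subgroup (MulAut R) := D.autGroup R ⊔ autInducedBy R' R
  have hnM : autInducedBy R' R ≤ Subgroup.normalizer ((D.autGroup R : Subgroup (MulAut R)) : Set (MulAut R)) := by
    intro s hs
    have hsD' : ∀ {t}, t ∈ autInducedBy R' R → IsoIn D' t := fun ht =>
      (mem_autGroup hle).1 (autInducedBy_le_autGroup hle ht)
    refine Subgroup.mem_normalizer_iff.2 fun b => ⟨fun hb => ?_, fun hb => ?_⟩
    · exact congr_mem_invariant hinv le_rfl (hsD' hs) hb
    · have h := congr_mem_invariant hinv le_rfl (hsD' (inv_mem hs)) hb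
      change s⁻¹ * (s * b * s⁻¹) * (s⁻¹)⁻¹ ∈ D.autGroup R at h
      simpa [mul_assoc] using h
  have hαM : α ∈ M := by
    obtain ⟨-, Rs, hRs⟩ := (isFullyAutomized_and_fc_of_fn hR' hD'.1 (isFullyNormalized_of_fixed hle
      fun φ hφ x => hinv.2.1.2 R le_rfl φ hφ x)).2
    refine le_of_sylow_of_coprime Rs (le_of_eq_of_le
      (by rw [hRs, Subgroup.map_subgroupOf_eq_of_le (autInducedBy_le_autGroup hle)]) le_sup_right)
      (fun b hb hc => Subgroup.mem_sup_left ?_) hα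
    exact c.over_mem hD le_rfl ((mem_autGroup (hle.trans hR'S)).2 (hD'.2.1 R ((mem_autGroup hle).1 hb))) hc
  have hMset : (M : Set (MulAut R)) = (autInducedBy R' R : Set (MulAut R)) * (D.autGroup R : Set (MulAut R)) := by
    show ((D.autGroup R ⊔ autInducedBy R' R : Subgroup (MulAut R)) : Set (MulAut R)) = _
    rw [sup_comm]
    exact Subgroup.coe_mul_of_left_le_normalizer_right _ _ hnM
  have hαM' : α ∈ (M : Set (MulAut R)) := hαM
  rw [hMset] at hαM'
  obtain ⟨s, hs, d₀, hd₀, hαe⟩ := Set.mem_mul.1 hαM'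
  obtain ⟨r, hr, hre⟩ := mem_autInducedBy.1 hs
  refine ⟨r, hr, _, D.comp_mem hφ₀ ((mem_autGroup le_rfl).1 hd₀) fun x => hom_mem hφ₀ x, fun x => ?_⟩
  rw [hee x (hom_mem hφ₀ x), ← hαe, MulAut.mul_apply, hre]
  rfl

/-- A map of the system over a larger subgroup is a conjugation after a map of the system over the smaller. -/
theorem over_decompose (hD : c.IsOver D) (hTR : T ≤ R) :
    ∀ (n : ℕ) {R' : Subgroup Ω} {D' : FusionSystem R'}, c.IsOver D' → R ≤ R' → Nat.card R' ≤ n →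
      ∀ {P : Subgroup Ω} {φ : P →* Ω}, φ ∈ D'.Hom P → P ≤ R →
        ∃ r ∈ R', ∃ d ∈ D.Hom P, ∀ x : P, φ x = r * d x * r⁻¹ := by
  suffices h : ∀ (n : ℕ) {R₀ R' : Subgroup Ω} {D₀ : FusionSystem R₀} {D' : FusionSystem R'}, c.IsOver D₀ →
      c.IsOver D' → T ≤ R₀ → R₀ ≤ R' → Nat.card R' ≤ Nat.card R₀ + n →
      ∀ {P : Subgroup Ω} {φ : P →* Ω}, φ ∈ D'.Hom P → P ≤ R₀ →
        ∃ r ∈ R', ∃ d ∈ D₀.Hom P, ∀ x : P, φ x = r * d x * r⁻¹ by
    intro n R' D' hD' hle hn P φ hφ hP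
    exact h n hD hD' hTR hle (hn.trans (Nat.le_add_left _ _)) hφ hP
  intro n
  induction n with
  | zero =>
    intro R₀ R' D₀ D' hD₀ hD' hT hle hn P φ hφ hP
    obtain rfl : R₀ = R' := eq_of_le_of_card_le (c.over_le hD') hle (by simpa using hn)
    exact ⟨1, one_mem _, φ, c.over_mono hD' hD₀ le_rfl P hφ, fun x => by simp⟩
  | succ n ih =>
    intro R₀ R' D₀ D' hD₀ hD' hT hle hn P φ hφ hP
    haveI := finite_of_le (c.over_le hD')
    rcases hle.eq_or_lt with rfl | hlt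
    · exact ⟨1, one_mem _, φ, c.over_mono hD' hD₀ le_rfl P hφ, fun x => by simp⟩
    set R₁ := normalizerIn R' R₀ with hR₁
    have h1 : R₀ < R₁ := lt_normalizerIn (c.pS.to_le (c.over_le hD')) hlt
    haveI := finite_of_le (normalizerIn_le (S := R') R₀)
    obtain ⟨D₁, hD₁⟩ := c.exists_over (hT.trans h1.le) ((normalizerIn_le R₀).trans (c.over_le hD'))
    have h2 : Nat.card R₀ < Nat.card R₁ := Set.Finite.card_lt_card (Set.toFinite _) h1
    obtain ⟨r, hr, d₁, hd₁, he₁⟩ := ih hD₁ hD' (hT.trans h1.le) (normalizerIn_le R₀) (by omega) hφ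
      (hP.trans h1.le)
    obtain ⟨r', hr', d, hd, he⟩ := c.over_decompose_step hD₀ hD₁ hT h1.le inf_le_right hd₁ hP
    refine ⟨r * r', R'.mul_mem hr (normalizerIn_le R₀ hr'), d, hd, fun x => ?_⟩
    rw [he₁, he]
    group

end ProdCtx

end Cfsg.Lib.FusionSys
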